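import Cfsg.Agent.Lib.ThompsonComm.Quad

/-!
Splitting off the first block of the rational canonical form.
-/

set_option autoImplicit false

namespace Cfsg.Agent.Lib.ThompsonComm

open Matrix Polynomial Module

variable {F : Type*} [Field F]

theorem msim_of_inj {n m : Type} [Fintype n] [DecidableEq n] [Fintype m] [DecidableEq m]
    {A : Matrix n n F} {B : Matrix m m F} (P : Matrix n m F) (hc : Fintype.card n = Fintype.card m)
    (hinj : Function.Injective P.mulVec) (h : A * P = P * B) : MSim A B := by
  classical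
  let e : m ≃ n := Fintype.equivOfCardEq hc.symm
  set K := P.submatrix e id with hK
  have hu : IsUnit K.det := by
    rw [← Matrix.isUnit_iff_isUnit_det, ← Matrix.mulVec_injective_iff_isUnit]
    intro x y hxy
    apply hinj
    funext i
    have := congrFun hxy (e.symm i)
    simpa [hK, mulVec, dotProduct] using this
  have hP : P = K.submatrix e.symm id := by ext; simp [hK]
  refine ⟨P, K⁻¹.submatrix id e.symm, ?_, ?_, h⟩
  · rw [hP, ← Matrix.submatrix_mul _ _ e.symm id e.symm Function.bijective_id, Matrix.mul_nonsing_inv _ hu]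
    exact Matrix.submatrix_one_equiv e.symm
  · rw [hP, ← Matrix.submatrix_mul _ _ id e.symm id e.symm.bijective, Matrix.nonsing_inv_mul _ hu]
    exact Matrix.submatrix_one id Function.injective_id

theorem exists_vec_minpoly {n : Type} [Fintype n] [DecidableEq n] (g : Matrix n n F) :
    ∃ v : n → F, ∀ p : F[X], aeval g p *ᵥ v = 0 → minpoly F g ∣ p := by
  set f : Module.End F (n → F) := toLin' g with hf
  obtain ⟨x, hx⟩ := exists_ker_toSpanSingleton_eq_annihilator F[X] (AEval' f)
  obtain ⟨v, rfl⟩ := (AEval'.of f).surjective x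
  refine ⟨v, fun p hp => ?_⟩
  have he : aeval f p v = 0 := by
    have : aeval f p = toLinAlgEquiv' (aeval g p) := by
      rw [← Polynomial.aeval_algHom_apply toLinAlgEquiv' g p]; rfl
    rw [this]
    exact hp
  have hm : p ∈ LinearMap.ker (LinearMap.toSpanSingleton F[X] (AEval' f) (AEval'.of f v)) := by
    rw [LinearMap.mem_ker, LinearMap.toSpanSingleton_apply]
    show p • AEval.of F (n → F) f v = 0
    rw [← AEval.of_aeval_smul]
    show AEval.of F (n → F) f (aeval f p v) = 0
    rw [he, map_zero]
  rw [hx, ← span_minpoly_eq_annihilator, Ideal.mem_span_singleton, hf, minpoly_toLin'] at hm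
  exact hm

theorem peel {N : ℕ} (g : Matrix (Fin N) (Fin N) F) (hD : 0 < (minpoly F g).natDegree) :
    ∃ (w : ℕ) (g' : Matrix (Fin w) (Fin w) F), (minpoly F g).natDegree + w = N ∧ aeval g' (minpoly F g) = 0 ∧
      MSim g (bd (comp (minpoly F g).natDegree (minpoly F g)) g') := by
  classical
  obtain ⟨v, hv⟩ := exists_vec_minpoly g
  set d := minpoly F g with hd
  set D := d.natDegree with hDd
  have hdm : d.Monic := minpoly.monic (Matrix.isIntegral g)
  have hd0 : aeval g d = 0 := minpoly.aeval F g
  set K := kry D g v with hK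
  have hKinj : Function.Injective K.mulVec := by
    rw [← Matrix.coe_mulVecLin]
    rw [injective_iff_map_eq_zero]
    intro c hc
    rw [Matrix.mulVecLin_apply, hK, kry_mulVec_eq] at hc
    set p : F[X] := ∑ i : Fin D, C (c i) * X ^ (i : ℕ) with hp
    have hdvd : d ∣ p := by
      apply hv
      rw [hp, map_sum, Matrix.sum_mulVec]
      simpa [Algebra.algebraMap_eq_smul_one, Matrix.smul_mulVec] using hc
    have hp0 : p = 0 := by
      by_contra hne
      have h1 := natDegree_le_of_dvd hdvd hne
      have h2 : p.natDegree < D := by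
        rw [hp]
        refine lt_of_le_of_lt (natDegree_sum_le_of_forall_le _ _ (n := D - 1) fun i _ => ?_) (by omega)
        exact le_trans (natDegree_C_mul_X_pow_le _ _) (by omega)
      omega
    funext i
    have := congrArg (fun q => q.coeff (i : ℕ)) hp0
    simp only [hp, finset_sum_coeff, coeff_C_mul, coeff_X_pow, coeff_zero] at this
    rw [Finset.sum_eq_single i] at this
    · simpa using this
    · intro b _ hb; simp [show ¬ ((i : ℕ) = (b : ℕ)) from fun e => hb (Fin.ext e.symm)]
    · simp
  obtain ⟨Lf, hLf⟩ := K.mulVecLin.exists_leftInverse_of_injective (LinearMap.ker_eq_bot.2 hKinj)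
  set φ : (Fin N → F) →ₗ[F] F := (LinearMap.proj (⟨D - 1, by omega⟩ : Fin D)).comp Lf with hφ
  set ψ : (Fin N → F) →ₗ[F] (Fin D → F) := LinearMap.pi fun i => φ.comp (toLin' (g ^ (i : ℕ))) with hψ
  have hφK : ∀ (j : ℕ) (hj : j < D), φ ((g ^ j) *ᵥ v) = if j = D - 1 then 1 else 0 := by
    intro j hj
    have e : (g ^ j) *ᵥ v = K.mulVecLin (Pi.single ⟨j, hj⟩ 1) := by
      rw [Matrix.mulVecLin_apply, Matrix.mulVec_single_one]
      rfl
    rw [hφ, LinearMap.comp_apply, e, ← LinearMap.comp_apply Lf, hLf]
    simp [Pi.single_apply, Fin.ext_iff, eq_comm]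
  have hψK : Function.Injective (ψ.comp K.mulVecLin) := by
    rw [injective_iff_map_eq_zero]
    intro c hc
    have hrow : ∀ i : Fin D, ∑ j : Fin D, c j * φ ((g ^ ((i : ℕ) + (j : ℕ))) *ᵥ v) = 0 := by
      intro i
      have := congrFun hc i
      simp only [hψ, LinearMap.comp_apply, LinearMap.pi_apply, Matrix.mulVecLin_apply, hK, kry_mulVec_eq,
        map_sum, map_smul, toLin'_apply, smul_eq_mul, Pi.zero_apply] at this
      simpa [Matrix.mulVec_mulVec, ← pow_add] using this
    suffices h : ∀ r, ∀ j : Fin D, D - 1 - (j : ℕ) = r → c j = 0 from funext fun j => h _ j rfl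
    intro r
    induction r using Nat.strong_induction_on with
    | _ r ih =>
      intro j hj
      have hj2 := j.2
      have := hrow ⟨r, by omega⟩
      rw [Finset.sum_eq_single j] at this
      · simp only at this
        rw [hφK _ (by omega), if_pos (by omega), mul_one] at this
        exact this
      · intro b _ hb
        have := Fin.val_ne_of_ne hb
        have hb2 := b.2
        rcases lt_or_gt_of_ne this with hl | hg
        · simp only
          rw [hφK _ (by omega), if_neg (by omega), mul_zero]
        · rw [ih (D - 1 - (b : ℕ)) (by omega) b rfl, zero_mul]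
      · simp
  have hinv : ∀ u ∈ LinearMap.ker ψ, g *ᵥ u ∈ LinearMap.ker ψ := by
    intro u hu
    have hu' : ∀ i : Fin D, φ ((g ^ (i : ℕ)) *ᵥ u) = 0 := fun i => by
      have := congrFun (LinearMap.mem_ker.1 hu) i
      simp only [hψ, LinearMap.pi_apply, LinearMap.comp_apply, toLin'_apply, Pi.zero_apply] at this
      exact this
    rw [LinearMap.mem_ker]
    funext i
    simp only [hψ, LinearMap.pi_apply, LinearMap.comp_apply, toLin'_apply, Matrix.mulVec_mulVec, ← pow_succ,
      Pi.zero_apply]
    by_cases hi : (i : ℕ) + 1 < D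
    · exact hu' ⟨(i : ℕ) + 1, hi⟩
    · have h := aeval_mulVec hdm hDd.symm g u
      rw [hd0, Matrix.zero_mulVec, eq_comm, ← eq_neg_iff_add_eq_zero] at h
      rw [show (i : ℕ) + 1 = D by omega, h, map_neg, map_sum]
      simp [hu']
  set B := Module.finBasis F (LinearMap.ker ψ) with hB
  set w := Module.finrank F (LinearMap.ker ψ) with hw
  set S : Matrix (Fin N) (Fin w) F := Matrix.of fun i t => (B t).1 i with hS
  set g' : Matrix (Fin w) (Fin w) F := Matrix.of fun s t => B.repr ⟨g *ᵥ (B t).1, hinv _ (B t).2⟩ s with hg'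
  have hgS : g * S = S * g' := by
    ext i t
    have h := congrArg (fun x : LinearMap.ker ψ => x.1 i) (B.sum_repr ⟨g *ᵥ (B t).1, hinv _ (B t).2⟩)
    simp only [AddSubmonoidClass.coe_finsetSum, Finset.sum_apply, Submodule.coe_smul, Pi.smul_apply,
      smul_eq_mul] at h
    rw [Matrix.mul_apply, Matrix.mul_apply]
    simp only [hS, hg', Matrix.of_apply]
    rw [show (∑ l, g i l * (B t).1 l) = (g *ᵥ (B t).1) i from rfl, ← h]
    exact Finset.sum_congr rfl fun s _ => mul_comm _ _
  have hSψ : ∀ b, ψ (S *ᵥ b) = 0 ∧ S *ᵥ b = ((∑ t, b t • B t : LinearMap.ker ψ) : Fin N → F) := by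
    intro b
    have e : S *ᵥ b = ((∑ t, b t • B t : LinearMap.ker ψ) : Fin N → F) := by
      funext i
      simp [hS, mulVec, dotProduct, mul_comm]
    exact ⟨by rw [e]; exact LinearMap.mem_ker.1 (∑ t, b t • B t : LinearMap.ker ψ).2, e⟩
  have hSinj : ∀ b, S *ᵥ b = 0 → b = 0 := by
    intro b hb
    rw [(hSψ b).2, ZeroMemClass.coe_eq_zero] at hb
    funext t
    exact Fintype.linearIndependent_iff.1 B.linearIndependent b hb t
  have hcard : D + w = N := by
    have h1 := LinearMap.finrank_range_add_finrank_ker ψ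
    have h2 : LinearMap.range ψ = ⊤ := by
      rw [LinearMap.range_eq_top]
      intro y
      obtain ⟨x, hx⟩ := (LinearMap.injective_iff_surjective.1 hψK) y
      exact ⟨_, hx⟩
    rw [h2, finrank_top, Module.finrank_fintype_fun_eq_card, Module.finrank_fintype_fun_eq_card,
      Fintype.card_fin, Fintype.card_fin] at h1
    omega
  refine ⟨w, g', hcard, ?_, ?_⟩
  · have key : ∀ p : F[X], aeval g p * S = S * aeval g' p := by
      intro p
      induction p using Polynomial.induction_on' with
      | add a b ha hb => simp [Matrix.add_mul, Matrix.mul_add, ha, hb]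
      | monomial k a =>
        simp only [aeval_monomial, Algebra.algebraMap_eq_smul_one, smul_mul_assoc, one_mul,
          Matrix.smul_mul, Matrix.mul_smul]
        congr 1
        induction k with
        | zero => simp
        | succ k ih => rw [pow_succ', pow_succ, Matrix.mul_assoc, ih, ← Matrix.mul_assoc, hgS, Matrix.mul_assoc,
            ← pow_succ', ← pow_succ]
    apply Matrix.ext_of_mulVec_single
    intro j
    rw [Matrix.zero_mulVec]
    apply hSinj
    rw [Matrix.mulVec_mulVec, ← key, hd0, Matrix.zero_mul, Matrix.zero_mulVec]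
  · refine msim_of_inj (fromCols K S) (by simp [hcard]) ?_ ?_
    · rw [← Matrix.coe_mulVecLin, injective_iff_map_eq_zero]
      intro c hc
      rw [Matrix.mulVecLin_apply, fromCols_mulVec] at hc
      have h1 : ψ (K *ᵥ (c ∘ Sum.inl)) = 0 := by
        have := congrArg ψ hc
        rwa [map_add, (hSψ _).1, add_zero, map_zero] at this
      have h2 : c ∘ Sum.inl = 0 := hψK (by simpa using h1)
      rw [h2, Matrix.mulVec_zero, zero_add] at hc
      funext t
      rcases t with t | t
      · exact congrFun h2 t
      · exact congrFun (hSinj _ hc) t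
    · rw [Matrix.mul_fromCols, fromCols_mul_fromBlocks]
      simp [hgS, hK, kry_mul_comp hdm hDd.symm g v (by rw [hd0, Matrix.zero_mulVec])]

/-- Classification of the matrices killed by a quadratic polynomial. -/
theorem quad_class {h : F[X]} (hh : h.Monic) (hhd : h.natDegree = 2) :
    ∀ (N : ℕ) (g : Matrix (Fin N) (Fin N) F), aeval g h = 0 →
      ∃ (t w : ℕ) (c : F), 2 * t + w = N ∧ (w = 0 ∨ h.eval c = 0) ∧
        MSim g (bd (q2 (Fin t) (h.coeff 0) (-h.coeff 1)) (c • (1 : Matrix (Fin w) (Fin w) F))) := by
  intro N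
  induction N using Nat.strong_induction_on with
  | _ N ih =>
    intro g hg
    rcases Nat.eq_zero_or_pos N with rfl | hN
    · exact ⟨0, 0, 0, rfl, Or.inl rfl, (MSim.of_eq (Subsingleton.elim _ _)).trans (MSim.empty_bd _ _).symm⟩
    have : Nonempty (Fin N) := ⟨⟨0, hN⟩⟩
    set d := minpoly F g with hd
    have hdm : d.Monic := minpoly.monic (Matrix.isIntegral g)
    have hdvd : d ∣ h := minpoly.dvd F g hg
    have hpos : 0 < d.natDegree := minpoly.natDegree_pos (Matrix.isIntegral g)
    have hle : d.natDegree ≤ 2 := hhd ▸ natDegree_le_of_dvd hdvd hh.ne_zero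
    rcases (show d.natDegree = 1 ∨ d.natDegree = 2 by omega) with h1 | h2
    · have he : d = X - C (-d.coeff 0) := by
        rw [map_neg, sub_neg_eq_add]; exact hdm.eq_X_add_C h1
      have hgc : g = (-d.coeff 0) • 1 := by
        have := minpoly.aeval F g
        rw [← hd, he] at this
        rw [map_sub, aeval_X, aeval_C, sub_eq_zero, Algebra.algebraMap_eq_smul_one] at this
        exact this
      refine ⟨0, N, -d.coeff 0, by omega, Or.inr ?_, (MSim.of_eq hgc).trans (MSim.empty_bd _ _).symm⟩
      exact Polynomial.dvd_iff_isRoot.1 (he ▸ hdvd)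
    · have hdh : d = h := (eq_of_monic_of_dvd_of_natDegree_le hdm hh hdvd (by omega)).symm
      obtain ⟨w, g', hw, hg', hs⟩ := peel g hpos
      rw [← hd, hdh, hhd] at hw hs
      rw [← hd, hdh] at hg'
      obtain ⟨t, w', c, htw, hc, hs'⟩ := ih w (by omega) g' hg'
      refine ⟨1 + t, w', c, by omega, hc, hs.trans ((comp_two.bd hs').trans ((MSim.bd_assoc _ _ _).symm.trans
        (MSim.bd ((q2_sum _ _).trans (q2_congr _ _ finSumFinEquiv)) (MSim.refl _))))⟩

end Cfsg.Agent.Lib.ThompsonComm
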