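import Cfsg.Agent.Lib.ThompsonComm.Cyclic
import Cfsg.Agent.Lib.ThompsonComm.Decomp

/-!
Fields with at least three elements.
-/

set_option autoImplicit false

namespace Cfsg.Agent.Lib.ThompsonComm

open Matrix Polynomial

variable {F : Type*} [Field F]

theorem exists_ne_three [Fintype F] (hF : 4 ≤ Fintype.card F) (a b c : F) : ∃ x : F, x ≠ a ∧ x ≠ b ∧ x ≠ c := by
  classical
  have h : ({a, b, c} : Finset F).card < (Finset.univ : Finset F).card :=
    lt_of_le_of_lt Finset.card_le_three (by rw [Finset.card_univ]; omega)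
  obtain ⟨x, -, hx⟩ := Finset.exists_mem_notMem_of_card_lt_card h
  simp at hx
  exact ⟨x, hx.1, hx.2.1, hx.2.2⟩

/-- A Jordan block. -/
def jord (j : ℕ) (ε : F) : Matrix (Fin j) (Fin j) F :=
  Matrix.of fun i l => if l = i then ε else if (i : ℕ) + 1 = (l : ℕ) then 1 else 0

theorem jord_upper (j : ℕ) (ε : F) : (jord j ε).IsUpperTriangular := by
  intro i l (h : l < i)
  rw [Fin.lt_def] at h
  simp only [jord, Matrix.of_apply]
  rw [if_neg (Fin.ne_of_val_ne (by omega)), if_neg (by omega)]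

theorem det_jord (j : ℕ) (ε : F) : (jord j ε).det = ε ^ j := by
  rw [Matrix.det_of_upperTriangular (jord_upper j ε)]; simp [jord]

theorem charpoly_jord (j : ℕ) (ε : F) : (jord j ε).charpoly = (X - C ε) ^ j := by
  rw [Matrix.charpoly_of_upperTriangular _ (jord_upper j ε)]; simp [jord]

theorem msim_jord (j : ℕ) (ε : F) : MSim (jord j ε) (comp j ((X - C ε) ^ j)) := by
  set L := (jord j ε).submatrix Fin.revPerm Fin.revPerm with hL
  have hH : Hess L := by
    intro i l
    have := i.2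
    have := l.2
    constructor
    · intro h
      simp [hL, jord, Fin.ext_iff, Fin.val_rev]
      rw [if_neg (by omega), if_pos (by omega)]
      exact one_ne_zero
    · intro h
      simp only [hL, jord, Matrix.submatrix_apply, Matrix.of_apply, Fin.revPerm_apply]
      rw [if_neg (Fin.ne_of_val_ne (by simp [Fin.val_rev]; omega)), if_neg (by simp [Fin.val_rev]; omega)]
  refine (MSim.submatrix (jord j ε) Fin.revPerm).symm.trans (hH.msim ((monic_X_sub_C ε).pow j) (by simp) ?_)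
  rw [← charpoly_jord j ε, ← (MSim.submatrix (jord j ε) Fin.revPerm).charpoly_eq, ← hL, aeval_self_charpoly,
    Matrix.zero_mulVec]

theorem cyc_sims (j : ℕ) {D Q Q' : F[X]} (hD : D.Monic) (hDd : D.natDegree = j + 3) (hD0 : D.coeff 0 ≠ 0)
    (hQ : Q.Monic) (hQd : Q.natDegree = 2) (hQr : ∀ r, Q.eval r ≠ 0)
    (hQ' : Q'.Monic) (hQ'd : Q'.natDegree = 2) (hQ'r : ∀ r, Q'.eval r ≠ 0)
    {μ μ' ε : F} (hμ : μ ≠ 0) (hε : ε ≠ 0) (hεμ : j = 0 ∨ ε ≠ μ')
    (hdet : μ' * Q'.coeff 0 = (comp (j + 3) D).det * μ * Q.coeff 0) :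
    ∃ a : Matrix (Fin (j + 3)) (Fin (j + 3)) F,
      MSim a (bd (bd (jord j ε) (sc μ)) (comp 2 Q)) ∧
      MSim (comp (j + 3) D * a) (bd (bd (jord j ε) (sc μ')) (comp 2 Q')) := by
  set R : Matrix (Fin (j + 1)) (Fin (j + 1)) F :=
    (bd (jord j ε) (sc μ)).submatrix finSumFinEquiv.symm finSumFinEquiv.symm with hR
  have hRs : MSim R (bd (jord j ε) (sc μ)) := MSim.submatrix _ _
  have hRu : R.IsUpperTriangular := by
    intro i l (h : l < i)
    obtain ⟨i, rfl⟩ := finSumFinEquiv.surjective i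
    obtain ⟨l, rfl⟩ := finSumFinEquiv.surjective l
    rw [Fin.lt_def] at h
    simp only [hR, Matrix.submatrix_apply, Equiv.symm_apply_apply]
    rcases i with i | i <;> rcases l with l | l <;> simp at h
    · simpa using jord_upper j ε (show l < i by rw [Fin.lt_def]; omega)
    · omega
    · simp
  have hRd : ∀ i, R i i ≠ 0 := by
    intro i
    obtain ⟨i, rfl⟩ := finSumFinEquiv.surjective i
    rcases i with i | i <;> simp [hR, jord, hε, hμ, sc]
  set f : F[X] := (X - C ε) ^ j * (X - C μ') * Q' with hf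
  have hm1 : ((X - C ε) ^ j : F[X]).Monic := (monic_X_sub_C ε).pow j
  have hfm : f.Monic := (hm1.mul (monic_X_sub_C μ')).mul hQ'
  have hgm : ((X - C ε) ^ j * (X - C μ')).natDegree = j + 1 := by
    rw [hm1.natDegree_mul (monic_X_sub_C μ'), natDegree_X_sub_C]; simp
  have hfd : f.natDegree = j + 1 + 2 := by
    rw [hf, (hm1.mul (monic_X_sub_C μ')).natDegree_mul hQ', hgm, hQ'd]
  have hco1 : IsCoprime ((X - C ε) ^ j : F[X]) (X - C μ') := by
    rcases hεμ with rfl | h
    · simp [isCoprime_one_left]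
    · exact (isCoprime_X_sub_C (f := X - C ε) (r := μ') (by simpa [sub_eq_zero] using h.symm)).pow_left
  have hco : ∀ (P : F[X]) (x : F), (∀ r, P.eval r ≠ 0) → IsCoprime ((X - C ε) ^ j * (X - C x)) P := fun P x hP =>
    ((isCoprime_X_sub_C (hP ε)).symm.pow_left).mul_left (isCoprime_X_sub_C (hP x)).symm
  have hsplit : MSim (comp (j + 1 + 2) f) (bd (bd (jord j ε) (sc μ')) (comp 2 Q')) :=
    (msim_comp_mul_coprime (hm1.mul (monic_X_sub_C μ')) hgm hQ' hQ'd (hco Q' μ' hQ'r)).trans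
      (((msim_comp_mul_coprime hm1 (by simp) (monic_X_sub_C μ') (natDegree_X_sub_C μ') hco1).trans
        ((msim_jord j ε).symm.bd (msim_comp_one rfl))).bd (MSim.refl _))
  have hRc : R.charpoly = (X - C ε) ^ j * (X - C μ) := by
    rw [hRs.charpoly_eq, bd, Matrix.charpoly_fromBlocks_zero₁₂, charpoly_jord,
      show sc μ = diagonal (fun _ : Fin 1 => μ) from smul_one_eq_diagonal μ, Matrix.charpoly_diagonal]
    simp
  have hdets : (comp (j + 1 + 2) f).det = (comp (j + 1 + 2) D).det * R.det * Q.coeff 0 := by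
    rw [hsplit.det_eq, hRs.det_eq]
    simp [det_comp hQ' hQ'd, det_jord, mul_assoc]
    linear_combination (ε ^ j) * hdet
  obtain ⟨a, h1, h2⟩ := cyclic_mul (k := j + 1) (by omega) hD hDd hD0 hfm hfd hQ hQd R hRu hRd
    (hRc ▸ hco Q μ hQr) hdets
  exact ⟨a, h1.trans (hRs.bd (MSim.refl _)), h2.trans hsplit⟩

theorem free_comp [Fintype F] (hF : 3 ≤ Fintype.card F) (j : ℕ) {D : F[X]} (hD : D.Monic)
    (hDd : D.natDegree = j + 3) (hD0 : D.coeff 0 ≠ 0) : Free (comp (j + 3) D) := by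
  intro μ d hμ hd
  obtain ⟨ε, hε, hεμ⟩ := exists_ne_two hF 0 (μ * (comp (j + 3) D).det)
  have hp : ε ^ j * μ ≠ 0 := mul_ne_zero (pow_ne_zero _ hε) hμ
  obtain ⟨Q, hQ, hQd, hQ0, hQr⟩ := exists_comp_noRoot (F := F) 2 le_rfl (div_ne_zero hd hp)
  obtain ⟨a, h1, h2⟩ := cyc_sims j hD hDd hD0 hQ hQd hQr hQ hQd hQr (μ' := μ * (comp (j + 3) D).det) hμ hε
    (Or.inr hεμ) (by ring)
  refine Slot.of rfl (bd (jord j ε) (comp 2 Q)) a ?_ (h1.trans (MSim.bd_right_comm _ _ _))
    (h2.trans (MSim.bd_right_comm _ _ _))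
  rw [h1.det_eq]
  simp [det_comp hQ hQd, det_jord] at hQ0 ⊢
  rw [hQ0, mul_div_cancel₀ _ hp]

/-- The exceptional blocks over the field of three elements. -/
def BadPoly [Fintype F] (h : F[X]) : Prop :=
  Fintype.card F = 3 ∧ h.coeff 0 = -1 ∧ ∀ r, h.eval r ≠ 0

section Three

variable [Fintype F]

theorem three_eq_zero (h : Fintype.card F = 3) : (3 : F) = 0 := by
  have := FiniteField.cast_card_eq_zero F
  rw [h] at this
  exact_mod_cast this

theorem eq_one_or_neg (h : Fintype.card F = 3) {x : F} (hx : x ≠ 0) : x = 1 ∨ x = -1 := by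
  have := FiniteField.pow_card_sub_one_eq_one x hx
  rw [h] at this
  exact mul_self_eq_one_iff.1 (by rw [← pow_two]; exact this)

theorem neg_one_ne_one (h : Fintype.card F = 3) : (-1 : F) ≠ 1 := by
  intro e
  have h3 := three_eq_zero h
  exact one_ne_zero (α := F) (by linear_combination h3 + e)

theorem pair_slot (j : ℕ) {D h : F[X]} (hD : D.Monic) (hDd : D.natDegree = j + 3) (hD0 : D.coeff 0 ≠ 0)
    (hh : h.Monic) (hhd : h.natDegree = 2) (hb : BadPoly h) {μ ε : F} (hμ : μ ≠ 0) (hε : ε ≠ 0)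
    (hεμ : j = 0 ∨ ε ≠ μ * (bd (comp 2 h) (comp (j + 3) D)).det) :
    Slot (bd (comp 2 h) (comp (j + 3) D)) μ (-(ε ^ j * μ)) := by
  obtain ⟨h3, h0, hr⟩ := hb
  have hex : h = X ^ 2 + C (h.coeff 1) * X + C (h.coeff 0) := by
    conv_lhs => rw [hh.as_sum, hhd]
    simp [Finset.sum_range_succ]
    ring
  have hb0 : h.coeff 1 ≠ 0 := by
    intro e
    apply hr 1
    rw [hex]
    simp [e, h0]
  set Q1 : F[X] := X ^ 2 + C 1 with hQ1
  have hQ1m : Q1.Monic := monic_X_pow_add_C 1 two_ne_zero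
  have hQ1d : Q1.natDegree = 2 := natDegree_X_pow_add_C
  have hQ1r : ∀ r, Q1.eval r ≠ 0 := by
    intro r e
    simp [hQ1] at e
    have hz : r ≠ 0 := by rintro rfl; simp at e
    rcases eq_one_or_neg h3 hz with rfl | rfl <;>
      exact neg_one_ne_one h3 (by linear_combination -e)
  have hQ10 : Q1.coeff 0 = 1 := by simp [hQ1, Polynomial.coeff_X_pow]
  have hQ11 : Q1.coeff 1 = 0 := by simp [hQ1, Polynomial.coeff_X_pow, Polynomial.coeff_one]
  set H := comp 2 h with hH
  have hHd : H.det = -1 := by rw [hH, det_comp hh hhd, h0]; simp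
  have hsq : MSim (H * H) (comp 2 Q1) := by
    have hb2 : h.coeff 1 * h.coeff 1 = 1 := by
      rcases eq_one_or_neg h3 hb0 with e | e <;> simp [e]
    have e : ∀ i j, (H * H) i j = !![(1 : F), -h.coeff 1; -h.coeff 1, 1 + h.coeff 1 * h.coeff 1] i j := by
      intro i j
      fin_cases i <;> fin_cases j <;> simp [hH, comp, Matrix.mul_apply, Fin.sum_univ_two, h0] <;> ring
    have hM : H * H = !![(1 : F), -h.coeff 1; -h.coeff 1, 1 + h.coeff 1 * h.coeff 1] := by
      ext i j; exact e i j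
    have hHess : Hess (H * H) := by
      intro i j
      rw [hM]
      fin_cases i <;> fin_cases j <;> simp [hb0]
    refine hHess.msim hQ1m hQ1d ?_
    have hc : (H * H).charpoly = Q1 := by
      rw [Matrix.charpoly_fin_two, Matrix.det_mul, hHd, hM, Matrix.trace_fin_two]
      simp [hQ1]
      rw [← C_mul, hb2, C_1, show (1 : F[X]) + (1 + 1) = C (3 : F) by rw [map_ofNat]; norm_num, three_eq_zero h3, C_0]
    rw [← hc, aeval_self_charpoly, Matrix.zero_mulVec]
  set μ' := μ * (bd H (comp (j + 3) D)).det with hμ'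
  have hdet : μ' * h.coeff 0 = (comp (j + 3) D).det * μ * Q1.coeff 0 := by
    rw [hμ', hQ10, h0, bd, det_fromBlocks_zero₂₁, hHd]; ring
  obtain ⟨a, h1, h2⟩ := cyc_sims j hD hDd hD0 hQ1m hQ1d hQ1r hh hhd hr hμ hε hεμ hdet
  refine Slot.of hμ' (bd (jord j ε) (bd (comp 2 Q1) H)) (bd H a) ?_ ?_ ?_
  · simp [hHd, h1.det_eq, det_comp hQ1m hQ1d, hQ10, det_jord]
  · refine ((MSim.refl H).bd h1).trans ((MSim.bd_comm _ _).trans ((MSim.bd_assoc _ _ _).trans
      ((MSim.bd_right_comm _ _ _).trans (MSim.refl _))))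
  · rw [show bd H (comp (j + 3) D) * bd H a = bd (H * H) (comp (j + 3) D * a) by simp [fromBlocks_multiply]]
    exact (hsq.bd h2).trans ((MSim.bd_comm _ _).trans ((MSim.bd_assoc _ _ _).trans
      ((MSim.bd_right_comm _ _ _).trans (((MSim.refl _).bd (MSim.bd_comm _ _)).bd (MSim.refl _)))))

theorem piece_pair (j : ℕ) {D h : F[X]} (hD : D.Monic) (hDd : D.natDegree = j + 3) (hD0 : D.coeff 0 ≠ 0)
    (hh : h.Monic) (hhd : h.natDegree = 2) (hb : BadPoly h) : Piece (bd (comp 2 h) (comp (j + 3) D)) := by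
  intro μ hμ
  set μ' := μ * (bd (comp 2 h) (comp (j + 3) D)).det with hμ'
  have h0 : μ' ≠ 0 := by
    apply mul_ne_zero hμ
    simp [det_comp hh hhd, det_comp hD hDd, hD0, hb.2.1]
  refine ⟨_, ?_, pair_slot j hD hDd hD0 hh hhd hb hμ (neg_ne_zero.2 h0) (Or.inr ?_)⟩
  · simp [h0, hμ]
  · intro e
    exact neg_one_ne_one hb.1 (mul_right_cancel₀ h0 (by linear_combination e))

theorem com_pair (j : ℕ) {D h : F[X]} (hD : D.Monic) (hDd : D.natDegree = j + 3) (hD0 : D.coeff 0 ≠ 0)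
    (hh : h.Monic) (hhd : h.natDegree = 2) (hb : BadPoly h)
    (hdet : (bd (comp 2 h) (comp (j + 3) D)).det = 1) : Com (bd (comp 2 h) (comp (j + 3) D)) := by
  have hne := neg_one_ne_one hb.1
  rcases Nat.even_or_odd j with hj | hj
  · have := pair_slot j hD hDd hD0 hh hhd hb (μ := -1) (ε := 1) (neg_ne_zero.2 one_ne_zero) one_ne_zero
      (Or.inr (by rw [hdet, mul_one]; exact hne.symm))
    refine Slot.com (μ := -1) ?_ hdet
    simpa using this
  · have := pair_slot j hD hDd hD0 hh hhd hb (μ := 1) (ε := -1) one_ne_zero (neg_ne_zero.2 one_ne_zero)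
      (Or.inr (by rw [hdet, mul_one]; exact hne))
    refine Slot.com (μ := 1) ?_ hdet
    simpa [hj.neg_one_pow] using this

end Three

end Cfsg.Agent.Lib.ThompsonComm
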