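import Cfsg.Agent.Lib.ThompsonComm.Quad

/-!
Scalar matrices of determinant one are commutators.
-/

set_option autoImplicit false

namespace Cfsg.Agent.Lib.ThompsonComm

open Matrix Polynomial

variable {F : Type*} [Field F]

theorem com_scalar_odd {o : ℕ} {c : F} (ho : Odd o) (hc : c ^ o = 1) (hc0 : c ≠ 0) :
    Com (c • (1 : Matrix (Fin o) (Fin o) F)) := by
  have hopos := ho.pos
  set W := comp o (X ^ o - C (1 : F)) with hW
  set D : Matrix (Fin o) (Fin o) F := diagonal fun i => c ^ (i : ℕ) with hD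
  refine ⟨D, W * 1, ?_, ?_, ?_⟩
  · rw [hD, det_diagonal, Finset.prod_pow_eq_pow_sum,
      Fin.sum_univ_eq_sum_range (fun i => i) o, Finset.sum_range_id]
    obtain ⟨k, rfl⟩ := ho
    rw [show (2 * k + 1) * (2 * k + 1 - 1) / 2 = (2 * k + 1) * k by
      rw [show 2 * k + 1 - 1 = 2 * k by omega, show (2 * k + 1) * (2 * k) = (2 * k + 1) * k * 2 by ring,
        Nat.mul_div_cancel _ (by norm_num)], pow_mul, hc, one_pow]
  · rw [mul_one, hW, det_comp (monic_X_pow_sub_C _ hopos.ne') (natDegree_X_pow_sub_C)]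
    simp [Polynomial.coeff_X_pow, hopos.ne', ho.neg_one_pow, eq_comm]
  · rw [mul_one, Matrix.smul_mul, Matrix.one_mul]
    ext i j
    rw [hD, Matrix.smul_apply, Matrix.mul_diagonal, Matrix.diagonal_mul, smul_eq_mul]
    by_cases hj : (j : ℕ) + 1 < o
    · by_cases hi : (i : ℕ) = (j : ℕ) + 1
      · simp [hW, comp, hi, hj, pow_succ]; ring
      · simp [hW, comp, hi, hj]
    · by_cases hi : (i : ℕ) = 0
      · simp [hW, comp, hj, hi, Polynomial.coeff_X_pow, hopos.ne, hopos.ne']
        rw [← pow_succ', show (j : ℕ) + 1 = o by omega, hc]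
      · have := i.2
        simp [hW, comp, hj, Polynomial.coeff_X_pow, show (i : ℕ) ≠ o by omega, hi, Polynomial.coeff_C,
          Polynomial.coeff_one]

theorem com_scalar_even [Fintype F] {r : ℕ} (hr : 0 < r) {c : F} (hc : c ^ r = -1) (hne : (-1 : F) ≠ 1) :
    Com (c • (1 : Matrix (Fin (r + r)) (Fin (r + r)) F)) := by
  classical
  obtain ⟨x, y, hxy⟩ : ∃ x y : F, x ^ 2 + y ^ 2 = c := by
    have hodd : Fintype.card F % 2 = 1 := by
      apply FiniteField.odd_card_of_char_ne_two
      intro h2
      haveI : CharP F 2 := h2 ▸ ringChar.charP F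
      exact hne (CharTwo.neg_eq (1 : F))
    obtain ⟨x, y, h⟩ := FiniteField.exists_root_sum_quadratic
      (monic_X_pow (R := F) 2 |> fun _ => degree_X_pow (R := F) 2) (degree_X_pow_sub_C (n := 2) (by norm_num) c) hodd
    exact ⟨x, y, by simp at h; linear_combination h⟩
  have hc0 : c ≠ 0 := by
    rintro rfl
    rw [zero_pow hr.ne'] at hc
    exact neg_ne_zero.2 one_ne_zero hc.symm
  set e : Fin r ⊕ Fin r ≃ Fin (r + r) := finSumFinEquiv
  set W := comp (r + r) (X ^ (r + r) - C (-1 : F)) with hW
  set D : Matrix (Fin (r + r)) (Fin (r + r)) F := diagonal fun i => c ^ (i : ℕ) with hD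
  set J : Matrix (Fin (r + r)) (Fin (r + r)) F :=
    (fromBlocks (0 : Matrix (Fin r) (Fin r) F) (-1) 1 0).submatrix e.symm e.symm with hJ
  set M := D * (x • 1 + y • J) with hM
  have hrr : (r + r) ≠ 0 := by omega
  have hWJ : W * J = J * W := by
    have hcomm : J = W ^ r := by
      apply Matrix.ext_of_mulVec_single
      intro j
      obtain ⟨j, rfl⟩ := e.surjective j
      have hk := comp_pow_e0 (m := r + r) (X ^ (r + r) - C (-1 : F))
      have hs : ∀ k (h : k < r + r), (W ^ k) *ᵥ e0 = Pi.single (⟨k, h⟩ : Fin (r + r)) 1 := by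
        intro k h
        funext i
        rw [hW, hk k h i]
        simp [Pi.single_apply, Fin.ext_iff]
      have htop : (W ^ (r + r)) *ᵥ e0 = fun i : Fin (r + r) => -(if (i : ℕ) = 0 then (1 : F) else 0) := by
        have h1 := aeval_comp_e0 (m := r + r) (monic_X_pow_sub_C (-1 : F) hrr) natDegree_X_pow_sub_C
        rw [← hW] at h1
        simp only [map_sub, map_pow, aeval_X, aeval_C, Algebra.algebraMap_eq_smul_one, neg_smul, one_smul,
          sub_neg_eq_add, Matrix.add_mulVec, Matrix.one_mulVec] at h1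
        funext i
        have := congrFun h1 i
        simp [e0] at this
        exact eq_neg_of_add_eq_zero_left this
      rw [← hs _ (e j).2]
      conv_rhs => rw [Matrix.mulVec_mulVec, ← pow_add]
      have hev : ∀ t : Fin r, ((e (Sum.inl t)) : ℕ) = t ∧ ((e (Sum.inr t)) : ℕ) = r + t := fun t => by constructor <;> simp [e] <;> omega
      rw [hs _ (e j).2, Fin.eta]
      funext i
      obtain ⟨i, rfl⟩ := e.surjective i
      rw [Matrix.mulVec_single_one, hJ]
      simp only [Matrix.col_apply, Matrix.submatrix_apply, Equiv.symm_apply_apply]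
      rcases j with j | j
      · rw [hs _ (by rw [(hev j).1]; omega)]
        rcases i with i | i
        · simp [Pi.single_apply, Fin.ext_iff, (hev i).1, (hev j).1]; omega
        · simp [Pi.single_apply, Fin.ext_iff, (hev i).2, (hev j).1, Matrix.one_apply, eq_comm]
      · rw [show r + ((e (Sum.inr j)) : ℕ) = (j : ℕ) + (r + r) by rw [(hev j).2]; omega, pow_add,
          ← Matrix.mulVec_mulVec, htop]
        rw [show (fun i : Fin (r + r) => -(if (i : ℕ) = 0 then (1 : F) else 0)) = -e0 from rfl, Matrix.mulVec_neg,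
          hs _ (by omega)]
        rcases i with i | i
        · simp [Pi.single_apply, Fin.ext_iff, (hev i).1, Matrix.one_apply, eq_comm]
        · simp [Pi.single_apply, Fin.ext_iff, (hev i).2]; omega
    rw [hcomm, ← pow_succ', ← pow_succ]
  have hDW : c • (W * D) = D * W := by
    ext i j
    rw [hD, Matrix.smul_apply, Matrix.mul_diagonal, Matrix.diagonal_mul, smul_eq_mul]
    by_cases hj : (j : ℕ) + 1 < r + r
    · by_cases hi : (i : ℕ) = (j : ℕ) + 1
      · simp [hW, comp, hi, hj, pow_succ]; ring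
      · simp [hW, comp, hi, hj]
    · by_cases hi : (i : ℕ) = 0
      · have h' : c * c ^ (j : ℕ) = 1 := by
          rw [← pow_succ', show (j : ℕ) + 1 = r + r by omega, pow_add, hc]; ring
        simp [hW, comp, hj, hi, Polynomial.coeff_X_pow, show ¬ (0 = r + r) by omega, Polynomial.coeff_C,
          Polynomial.coeff_one]
        linear_combination h'
      · have := i.2
        simp [hW, comp, hj, Polynomial.coeff_X_pow, show (i : ℕ) ≠ r + r by omega, hi, Polynomial.coeff_C,
          Polynomial.coeff_one]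
  refine ⟨M, W, ?_, ?_, ?_⟩
  · have hj : (x • (1 : Matrix (Fin (r + r)) (Fin (r + r)) F) + y • J).det = c ^ r := by
      have e1 : (x • (1 : Matrix (Fin (r + r)) (Fin (r + r)) F) + y • J) =
          (fromBlocks (x • (1 : Matrix (Fin r) (Fin r) F)) (-(y • 1)) (y • 1) (x • 1)).submatrix e.symm e.symm := by
        rw [hJ]
        ext i j
        obtain ⟨i, rfl⟩ := e.surjective i
        obtain ⟨j, rfl⟩ := e.surjective j
        rcases i with i | i <;> rcases j with j | j <;> simp [Matrix.one_apply]
      rw [e1, Matrix.det_submatrix_equiv_self]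
      set P := fromBlocks (x • (1 : Matrix (Fin r) (Fin r) F)) (-(y • (1 : Matrix (Fin r) (Fin r) F)))
        (y • (1 : Matrix (Fin r) (Fin r) F)) (x • (1 : Matrix (Fin r) (Fin r) F)) with hP
      by_cases hx : x = 0
      · have hPq : P = q2 (Fin r) y 0 * fromBlocks (y • (1 : Matrix (Fin r) (Fin r) F)) 0 0 (1 : Matrix (Fin r) (Fin r) F) := by
          rw [hP, hx]; simp [fromBlocks_multiply]
        rw [hPq, det_mul, det_q2, Fintype.card_fin, det_fromBlocks_zero₂₁]
        simp [← mul_pow, ← hxy, hx, pow_two]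
      · have hPl : P * fromBlocks (x • 1) 0 (-(y • 1)) 1 =
            fromBlocks ((x ^ 2 + y ^ 2) • 1) (-(y • 1)) 0 (x • 1) := by
          rw [hP]
          simp [fromBlocks_multiply]
          refine ⟨?_, ?_⟩ <;> ext i l <;> simp [Matrix.one_apply] <;> split_ifs <;> ring
        have hd := congr(Matrix.det $hPl)
        simp only [det_mul, det_fromBlocks_zero₁₂, det_fromBlocks_zero₂₁, det_smul, det_one, Fintype.card_fin,
          mul_one, hxy] at hd
        exact mul_right_cancel₀ (pow_ne_zero r hx) hd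
    rw [hM, det_mul, hj, hD, det_diagonal, Finset.prod_pow_eq_pow_sum,
      Fin.sum_univ_eq_sum_range (fun i => i) (r + r), Finset.sum_range_id, hc]
    rw [show (r + r) * (r + r - 1) / 2 = r * (r + r - 1) by
      rw [show (r + r) * (r + r - 1) = r * (r + r - 1) * 2 by ring, Nat.mul_div_cancel _ (by norm_num)],
      pow_mul, hc, Odd.neg_one_pow ⟨r - 1, by omega⟩]
    simp
  · rw [hW, det_comp (monic_X_pow_sub_C _ hrr) natDegree_X_pow_sub_C]
    simp [Polynomial.coeff_X_pow, hr.ne', ← two_mul]
  · rw [Matrix.smul_mul, Matrix.one_mul, hM, ← Matrix.mul_assoc, ← Matrix.smul_mul, hDW, Matrix.mul_assoc D,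
      Matrix.mul_assoc D]
    congr 1
    simp [Matrix.mul_add, Matrix.add_mul, hWJ]

theorem Com.blocks {o : ℕ} {c : F} (h : Com (c • (1 : Matrix (Fin o) (Fin o) F))) :
    ∀ r, Com (c • (1 : Matrix (Fin (o * r)) (Fin (o * r)) F))
  | 0 => ⟨1, 1, det_one, det_one, by ext i; exact absurd i.2 (by simp)⟩
  | r + 1 => by
    have e := MSim.submatrix (c • 1 : Matrix (Fin (o * r + o)) (Fin (o * r + o)) F) finSumFinEquiv
    refine ((Com.blocks h r).bd h).congr (e.symm.trans (MSim.of_eq ?_))
    rw [← smul_one_sum]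
    ext i j
    simp [Matrix.one_apply]

/-- Scalar matrices. -/
theorem com_scalar [Fintype F] {N : ℕ} (hN : 0 < N) {c : F} (hc : c ^ N = 1) :
    Com (c • (1 : Matrix (Fin N) (Fin N) F)) := by
  have hc0 : c ≠ 0 := by rintro rfl; simp [hN.ne'] at hc
  set o := orderOf c with ho
  obtain ⟨r, hr⟩ := orderOf_dvd_of_pow_eq_one hc
  rw [← ho] at hr
  have hopos : 0 < o := by
    rcases Nat.eq_zero_or_pos o with h | h
    · simp [h] at hr; omega
    · exact h
  have hco : c ^ o = 1 := pow_orderOf_eq_one c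
  have key : Com (c • (1 : Matrix (Fin o) (Fin o) F)) := by
    rcases Nat.even_or_odd o with ⟨s, hs⟩ | hodd
    · rw [hs] at hco ⊢
      have hs0 : 0 < s := by omega
      have h1 : c ^ s ≠ 1 := fun e => by
        have := Nat.le_of_dvd hs0 (orderOf_dvd_of_pow_eq_one e)
        omega
      have h2 : c ^ s * c ^ s = 1 := by rw [← pow_add, hco]
      rcases mul_self_eq_one_iff.1 h2 with h | h
      · exact absurd h h1
      · exact com_scalar_even hs0 h fun e => h1 (h.trans e)
    · exact com_scalar_odd hodd hco hc0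
  rw [hr]
  exact key.blocks r

end Cfsg.Agent.Lib.ThompsonComm
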