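import Cfsg.Agent.Lib.ThompsonComm.Krylov

/-!
A cyclic matrix as a quotient of a cyclic matrix by a block triangular one.
-/

set_option autoImplicit false

namespace Cfsg.Agent.Lib.ThompsonComm

open Matrix Polynomial

variable {F : Type*} [Field F]

theorem comp_mul_apply {m : ℕ} (hm : 0 < m) (D : F[X]) (A : Matrix (Fin m) (Fin m) F) (i j : Fin m) :
    (comp m D * A) i j =
      (if (i : ℕ) = 0 then 0 else A ⟨(i : ℕ) - 1, by omega⟩ j) + -D.coeff i * A ⟨m - 1, by omega⟩ j := by
  classical
  rw [Matrix.mul_apply, ← Finset.add_sum_erase _ _ (Finset.mem_univ (⟨m - 1, by omega⟩ : Fin m)), add_comm]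
  congr 1
  · by_cases hi : (i : ℕ) = 0
    · rw [if_pos hi]
      refine Finset.sum_eq_zero fun b hb => ?_
      have := Fin.val_ne_of_ne (Finset.ne_of_mem_erase hb)
      simp [comp, hi, show (b : ℕ) + 1 < m by simp at this; omega]
    · rw [if_neg hi, Finset.sum_eq_single (⟨(i : ℕ) - 1, by omega⟩ : Fin m)]
      · simp [comp, show (i : ℕ) - 1 + 1 = (i : ℕ) by omega]
      · intro b hb hne
        have := Fin.val_ne_of_ne (Finset.ne_of_mem_erase hb)
        have := Fin.val_ne_of_ne hne
        simp at *
        simp [comp, show (b : ℕ) + 1 < m by omega, show ¬ ((i : ℕ) = (b : ℕ) + 1) by omega]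
      · intro h
        exfalso; apply h
        simp [Fin.ext_iff]; omega
  · simp [comp, show ¬ (m - 1 + 1 < m) by omega]

theorem trace_comp {m : ℕ} (hm : 0 < m) (f : F[X]) : (comp m f).trace = -f.coeff (m - 1) := by
  rw [Matrix.trace, Finset.sum_eq_single (⟨m - 1, by omega⟩ : Fin m)]
  · simp [comp, show ¬ (m - 1 + 1 < m) by omega]
  · intro b _ hb
    have := Fin.val_ne_of_ne hb
    simp at this
    simp [comp, show (b : ℕ) + 1 < m by omega]
  · simp

theorem msim_q_block {Q : F[X]} (hQ : Q.Monic) (hQd : Q.natDegree = 2) {a b d : F}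
    (ht : a + d = -Q.coeff 1) (hd : a * d - b = Q.coeff 0) : MSim !![a, b; 1, d] (comp 2 Q) := by
  have hc : (!![a, b; 1, d]).charpoly = Q := by
    rw [Matrix.charpoly_fin_two, Matrix.trace_fin_two, Matrix.det_fin_two]
    simp only [Matrix.of_apply, Matrix.cons_val', Matrix.cons_val_zero, Matrix.cons_val_one, mul_one,
      Matrix.empty_val', Matrix.cons_val_fin_one]
    rw [ht, hd]
    conv_rhs => rw [hQ.as_sum, hQd]
    simp [Finset.sum_range_succ]
    ring
  have hH : Hess !![a, b; 1, d] := by
    intro i j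
    fin_cases i <;> fin_cases j <;> simp
  exact hH.msim hQ hQd (by rw [← hc, aeval_self_charpoly, Matrix.zero_mulVec])

/-- The block triangular factor. -/
def ufac {k : ℕ} (R : Matrix (Fin k) (Fin k) F) (x : F) (u : Fin k → F) (a b d : F) :
    Matrix (Fin (k + 2)) (Fin (k + 2)) F :=
  (fromBlocks R (Matrix.of fun i j => if j = 0 then (if (i : ℕ) + 1 = k then x else 0) else u i) 0 !![a, b; 1, d]).submatrix
    finSumFinEquiv.symm finSumFinEquiv.symm

theorem cyclic_mul {k : ℕ} (hk : 1 ≤ k) {D f Q : F[X]} (hD : D.Monic) (hDd : D.natDegree = k + 2)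
    (hD0 : D.coeff 0 ≠ 0) (hf : f.Monic) (hfd : f.natDegree = k + 2) (hQ : Q.Monic) (hQd : Q.natDegree = 2)
    (R : Matrix (Fin k) (Fin k) F) (hR : R.IsUpperTriangular) (hRd : ∀ i, R i i ≠ 0)
    (hco : IsCoprime R.charpoly Q)
    (hdet : (comp (k + 2) f).det = (comp (k + 2) D).det * R.det * Q.coeff 0) :
    ∃ a, MSim a (bd R (comp 2 Q)) ∧ MSim (comp (k + 2) D * a) (comp (k + 2) f) := by
  classical
  set g := comp (k + 2) D with hg
  have hgd : IsUnit g.det := by rw [hg, det_comp hD hDd, isUnit_iff_ne_zero]; simp [hD0]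
  set a' : F := 1 + D.coeff (k + 1) with ha'
  set d' : F := -Q.coeff 1 - a' with hd'
  set b' : F := a' * d' - Q.coeff 0 with hb'
  set L : Fin (k + 2) := ⟨k + 1, by omega⟩ with hL
  set K : Fin (k + 2) := ⟨k, by omega⟩ with hK
  set e : Fin k ⊕ Fin 2 ≃ Fin (k + 2) := finSumFinEquiv with he
  have eK : e (Sum.inr 0) = K := Fin.ext (by simp [he, hK])
  have eL : e (Sum.inr 1) = L := Fin.ext (by simp [he, hL])
  have eLs : e.symm L = Sum.inr 1 := by rw [← eL, Equiv.symm_apply_apply]
  have hess : ∀ x u b d, Hess (g * ufac R x u a' b d) := by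
    intro x u b d i j
    rw [hg, comp_mul_apply (by omega)]
    simp only [ufac, Matrix.submatrix_apply]
    rw [show (⟨k + 2 - 1, by omega⟩ : Fin (k + 2)) = L from Fin.ext (by simp [hL]), ← he, eLs]
    constructor
    · intro hij
      have hlt : (j : ℕ) < k + 1 := by have := i.2; omega
      rw [if_neg (by omega), show (⟨(i : ℕ) - 1, by omega⟩ : Fin (k + 2)) = j from Fin.ext (by simp; omega)]
      obtain ⟨j, rfl⟩ := e.surjective j
      rcases j with j | j
      · simpa using hRd j
      · have : j = 0 := by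
          have h2 : (j : ℕ) = 0 := by simp [he] at hlt; omega
          exact Fin.ext h2
        subst this
        simp [ha', show (i : ℕ) = k + 1 by simp [he] at hij; omega]
    · intro hij
      rw [if_neg (by omega)]
      obtain ⟨j, rfl⟩ := e.surjective j
      rcases j with j | j
      · obtain ⟨l, hl⟩ := e.surjective ⟨(i : ℕ) - 1, by omega⟩
        rw [← hl]
        rcases l with l | l
        · have h3 := congrArg Fin.val hl
          simp [he] at h3 hij
          simp [hR (show j < l by rw [Fin.lt_def]; omega)]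
        · simp
      · exfalso
        have := i.2
        simp [he] at hij
        omega
  set A0 := ufac R 0 0 a' b' d' with hA0
  set x : F := -f.coeff (k + 1) - (g * A0).trace with hx
  set H := g * ufac R x 0 a' b' d' with hH
  have htr : H.trace = -f.coeff (k + 1) := by
    have e1 : ufac R x 0 a' b' d' = A0 + Matrix.single (⟨k - 1, by omega⟩ : Fin (k + 2)) K x := by
      ext i j
      obtain ⟨i, rfl⟩ := e.surjective i
      obtain ⟨j, rfl⟩ := e.surjective j
      simp only [hA0, ufac, Matrix.add_apply, Matrix.submatrix_apply, ← he, Equiv.symm_apply_apply]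
      have ev1 : ∀ t, (e (Sum.inl t) : ℕ) = t := fun t => by simp [he]
      have ev2 : ∀ t, (e (Sum.inr t) : ℕ) = k + t := fun t => by simp [he]
      rcases i with i | i <;> rcases j with j | j
      · have := j.2
        simp only [Matrix.single_apply, fromBlocks_apply₁₁, Fin.ext_iff, ev1, hK]
        rw [if_neg (by omega), add_zero]
      · simp only [Matrix.single_apply, fromBlocks_apply₁₂, Matrix.of_apply, Fin.ext_iff, ev1, ev2, hK, Fin.val_zero]
        fin_cases j <;> simp <;> split_ifs <;> first | rfl | omega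
      · simp only [Matrix.single_apply, fromBlocks_apply₂₁, Fin.ext_iff, ev1, ev2, hK]
        have := j.2
        rw [if_neg (by omega), add_zero]
      · simp only [Matrix.single_apply, fromBlocks_apply₂₂, Fin.ext_iff, ev2, hK]
        rw [if_neg (by omega), add_zero]
    have e2 : g K ⟨k - 1, by omega⟩ = 1 := by
      simp [hg, comp, hK, show k - 1 + 1 = k by omega]
    rw [hH, e1, Matrix.mul_add, Matrix.trace_add, Matrix.trace_mul_single, e2, hx]
    simp
  set v : Fin (k + 2) → F := (H ^ (k + 1)) *ᵥ e0 with hv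
  have hHess : Hess H := hess x 0 b' d'
  have hvL : v L ≠ 0 := (hHess.pow_e0 (k + 1) L).1 rfl
  set r : Fin (k + 2) → F := -∑ j : Fin (k + 2), f.coeff j • ((H ^ (j : ℕ)) *ᵥ e0) with hr
  set h : Fin (k + 2) → F := fun i => H i L + (r i - (H *ᵥ v) i) / v L with hh
  set H' := H.updateCol L h with hH'
  have hpow : ∀ j, j ≤ k + 1 → (H' ^ j) *ᵥ e0 = (H ^ j) *ᵥ e0 := by
    intro j
    induction j with
    | zero => intro _; simp
    | succ j ih =>
      intro hj
      rw [pow_succ', pow_succ', ← Matrix.mulVec_mulVec, ← Matrix.mulVec_mulVec, ih (by omega)]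
      funext i
      show (∑ l, H' i l * ((H ^ j) *ᵥ e0) l) = ∑ l, H i l * ((H ^ j) *ᵥ e0) l
      refine Finset.sum_congr rfl fun l _ => ?_
      by_cases hl : l = L
      · subst hl
        simp [(hHess.pow_e0 j L).2 (by simp [hL]; omega)]
      · simp [hH', Matrix.updateCol_ne hl]
  have htop : (H' ^ (k + 2)) *ᵥ e0 = r := by
    rw [pow_succ', ← Matrix.mulVec_mulVec, hpow _ le_rfl, ← hv]
    funext i
    show (∑ l, H' i l * v l) = r i
    have hd : (∑ l, H' i l * v l) - (H *ᵥ v) i = (h i - H i L) * v L := by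
      rw [show (H *ᵥ v) i = ∑ l, H i l * v l from rfl, ← Finset.sum_sub_distrib, Finset.sum_eq_single L]
      · simp [hH', sub_mul]
      · intro b _ hb; simp [hH', Matrix.updateCol_ne hb]
      · simp
    rw [hh] at hd
    simp only [add_sub_cancel_left, div_mul_cancel₀ _ hvL] at hd
    exact sub_left_inj.1 hd
  have hH'ess : Hess H' := by
    intro i j
    by_cases hj : j = L
    · subst hj
      have := i.2
      exact ⟨fun e => by simp [hL] at e; omega, fun e => by simp [hL] at e; omega⟩
    · rw [hH', Matrix.updateCol_ne hj]; exact hHess i j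
  have hsim : MSim H' (comp (k + 2) f) := by
    refine hH'ess.msim hf hfd ?_
    have hs : ∑ j : Fin (k + 2), f.coeff j • ((H' ^ (j : ℕ)) *ᵥ e0) =
        ∑ j : Fin (k + 2), f.coeff j • ((H ^ (j : ℕ)) *ᵥ e0) :=
      Finset.sum_congr rfl fun j _ => by rw [hpow _ (by omega)]
    rw [aeval_mulVec hf hfd, hs, htop]
    simp [hr]
  set w := g⁻¹ *ᵥ h with hw
  set A := ufac R x (fun i => w (e (Sum.inl i))) a' (w K) (w L) with hA
  have hgA : g * A = H' := by
    ext i j
    obtain ⟨j, rfl⟩ := e.surjective j
    by_cases hj : j = Sum.inr 1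
    · subst hj
      rw [eL, hH', Matrix.updateCol_self,
        show h = g *ᵥ w by rw [hw, Matrix.mulVec_mulVec, Matrix.mul_nonsing_inv _ hgd, Matrix.one_mulVec],
        Matrix.mul_apply]
      refine Finset.sum_congr rfl fun l _ => ?_
      congr 1
      obtain ⟨l, rfl⟩ := e.surjective l
      rw [hA, ufac, Matrix.submatrix_apply, ← he, eLs, Equiv.symm_apply_apply]
      rcases l with l | l
      · simp
      · fin_cases l <;> simp [eK, eL]
    · have hne : e j ≠ L := by rw [← eL]; exact fun h => hj (e.injective h)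
      rw [hH', Matrix.updateCol_ne hne, hH, Matrix.mul_apply, Matrix.mul_apply]
      refine Finset.sum_congr rfl fun l _ => ?_
      congr 1
      obtain ⟨l, rfl⟩ := e.surjective l
      simp only [hA, ufac, Matrix.submatrix_apply, ← he, Equiv.symm_apply_apply]
      rcases j with j | j
      · rcases l with l | l <;> simp
      · have : j = 0 := by
          fin_cases j
          · rfl
          · exact absurd rfl hj
        subst this
        rcases l with l | l
        · simp
        · fin_cases l <;> simp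
  have hdA : A.det = R.det * (a' * w L - w K) := by
    rw [hA, ufac, Matrix.det_submatrix_equiv_self, Matrix.det_fromBlocks_zero₂₁, Matrix.det_fin_two]
    simp
  have hRdet : R.det ≠ 0 := by
    rw [Matrix.det_of_upperTriangular hR]; exact Finset.prod_ne_zero_iff.2 fun i _ => hRd i
  have eq2 : a' * w L - w K = Q.coeff 0 := by
    have := hsim.det_eq
    rw [← hgA, det_mul, hdA, hdet, ← mul_assoc] at this
    exact mul_left_cancel₀ (mul_ne_zero hgd.ne_zero hRdet) this
  have eq1 : w K + -D.coeff (k + 1) * w L = b' + -D.coeff (k + 1) * d' := by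
    have h1 : H'.trace = H.trace := by rw [hsim.trace_eq, trace_comp (by omega), htr]; rfl
    have h2 : H' L L = H L L := by
      rw [Matrix.trace, Matrix.trace, ← sub_eq_zero, ← Finset.sum_sub_distrib, Finset.sum_eq_single L] at h1
      · exact sub_eq_zero.1 h1
      · intro b _ hb; simp [hH', Matrix.updateCol_ne hb]
      · simp
    rw [← hgA, hH, hg, comp_mul_apply (by omega), comp_mul_apply (by omega)] at h2
    rw [show (⟨k + 2 - 1, by omega⟩ : Fin (k + 2)) = L from Fin.ext (by simp [hL]),
      show (⟨(L : ℕ) - 1, by omega⟩ : Fin (k + 2)) = K from Fin.ext (by simp [hL, hK])] at h2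
    have eKs : e.symm K = Sum.inr 0 := by rw [← eK, Equiv.symm_apply_apply]
    simp only [hA, ufac, Matrix.submatrix_apply, ← he, eLs, eKs] at h2
    simpa [hL] using h2
  have hwL : w L = d' := by linear_combination eq1 + eq2 + hb' + (d' - w L) * ha'
  refine ⟨A, ?_, hgA ▸ hsim⟩
  refine (MSim.submatrix _ _).trans ((MSim.upper ?_ _).trans ((MSim.refl R).bd (msim_q_block hQ hQd ?_ eq2)))
  · rwa [(msim_q_block hQ hQd (show a' + w L = _ by rw [hwL, hd']; ring) eq2).charpoly_eq,
      charpoly_comp hQ hQd]
  · rw [hwL, hd']; ring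

end Cfsg.Agent.Lib.ThompsonComm
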