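import Cfsg.Agent.Lib.ThompsonComm.Sim

/-!
Companion matrices, cyclic vectors and unreduced Hessenberg matrices.
-/

set_option autoImplicit false

namespace Cfsg.Agent.Lib.ThompsonComm

open Matrix Polynomial

variable {F : Type*} [Field F]

/-- The companion matrix of a monic polynomial of degree `m`. -/
noncomputable def comp (m : ℕ) (f : F[X]) : Matrix (Fin m) (Fin m) F :=
  Matrix.of fun i j => if (j : ℕ) + 1 < m then (if (i : ℕ) = (j : ℕ) + 1 then 1 else 0) else -f.coeff i

variable {n : Type} [Fintype n] [DecidableEq n]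

/-- The Krylov matrix. -/
def kry (m : ℕ) (M : Matrix n n F) (v : n → F) : Matrix n (Fin m) F :=
  Matrix.of fun i j => ((M ^ (j : ℕ)) *ᵥ v) i

theorem kry_mulVec_eq {m : ℕ} (M : Matrix n n F) (v : n → F) (w : Fin m → F) :
    kry m M v *ᵥ w = ∑ j, w j • ((M ^ (j : ℕ)) *ᵥ v) := by
  funext i
  simp [kry, mulVec, dotProduct, mul_comm]

theorem aeval_mulVec {m : ℕ} {f : F[X]} (hf : f.Monic) (hd : f.natDegree = m) (M : Matrix n n F) (v : n → F) :
    aeval M f *ᵥ v = (M ^ m) *ᵥ v + ∑ j : Fin m, f.coeff j • ((M ^ (j : ℕ)) *ᵥ v) := by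
  subst hd
  rw [aeval_eq_sum_range, Matrix.sum_mulVec, Finset.sum_range_succ, hf.coeff_natDegree, one_smul,
    Finset.sum_range (fun i => (f.coeff i • M ^ i) *ᵥ v), add_comm]
  simp [Matrix.smul_mulVec]

theorem kry_mul_comp {m : ℕ} {f : F[X]} (hf : f.Monic) (hd : f.natDegree = m) (M : Matrix n n F) (v : n → F)
    (h0 : aeval M f *ᵥ v = 0) : M * kry m M v = kry m M v * comp m f := by
  ext i j
  have hl : (M * kry m M v) i j = ((M ^ ((j : ℕ) + 1)) *ᵥ v) i := by
    rw [pow_succ', ← Matrix.mulVec_mulVec]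
    simp [Matrix.mul_apply, mulVec, dotProduct, kry]
  rw [hl, Matrix.mul_apply]
  by_cases hj : (j : ℕ) + 1 < m
  · rw [Finset.sum_eq_single (⟨(j : ℕ) + 1, hj⟩ : Fin m)]
    · simp [comp, kry, hj]
    · intro b _ hb
      have : (b : ℕ) ≠ (j : ℕ) + 1 := fun e => hb (Fin.ext e)
      simp [comp, hj, this]
    · simp
  · have e : (j : ℕ) + 1 = m := by omega
    rw [aeval_mulVec hf hd, ← eq_neg_iff_add_eq_zero] at h0
    rw [e, h0]
    simp [comp, hj, kry, mul_comm]

theorem msim_comp {m : ℕ} {f : F[X]} (hf : f.Monic) (hd : f.natDegree = m) {M : Matrix n n F} (v : n → F)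
    (hc : Fintype.card n = m) (hli : Function.Injective (kry m M v).mulVec) (h0 : aeval M f *ᵥ v = 0) :
    MSim M (comp m f) := by
  classical
  let e : Fin m ≃ n := (finCongr hc.symm).trans (Fintype.equivFin n).symm
  have hu : IsUnit ((kry m M v).submatrix e id) := by
    rw [← Matrix.mulVec_injective_iff_isUnit]
    intro x y hxy
    apply hli
    funext i
    have := congrFun hxy (e.symm i)
    simpa [mulVec, dotProduct] using this
  rw [Matrix.isUnit_iff_isUnit_det] at hu
  set K := (kry m M v).submatrix e id with hK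
  have hP : kry m M v = K.submatrix e.symm id := by ext; simp [hK]
  refine ⟨kry m M v, K⁻¹.submatrix id e.symm, ?_, ?_, kry_mul_comp hf hd M v h0⟩
  · rw [hP, ← Matrix.submatrix_mul _ _ e.symm id e.symm Function.bijective_id, Matrix.mul_nonsing_inv _ hu]
    exact Matrix.submatrix_one_equiv e.symm
  · rw [hP, ← Matrix.submatrix_mul _ _ id e.symm id e.symm.bijective, Matrix.nonsing_inv_mul _ hu]
    exact Matrix.submatrix_one id Function.injective_id

/-- Unreduced upper Hessenberg in all columns but the last one. -/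
def Hess {m : ℕ} (M : Matrix (Fin m) (Fin m) F) : Prop :=
  ∀ i j : Fin m, ((i : ℕ) = (j : ℕ) + 1 → M i j ≠ 0) ∧ ((j : ℕ) + 1 < (i : ℕ) → M i j = 0)

/-- The first unit vector. -/
def e0 {m : ℕ} : Fin m → F := fun i => if (i : ℕ) = 0 then 1 else 0

theorem Hess.pow_e0 {m : ℕ} {M : Matrix (Fin m) (Fin m) F} (h : Hess M) :
    ∀ k, ∀ i : Fin m, ((i : ℕ) = k → ((M ^ k) *ᵥ e0) i ≠ 0) ∧ (k < (i : ℕ) → ((M ^ k) *ᵥ e0) i = 0) := by
  intro k
  induction k with
  | zero => intro i; constructor <;> intro hi <;> simp [e0] <;> omega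
  | succ k ih =>
    intro i
    rw [pow_succ', ← Matrix.mulVec_mulVec]
    constructor
    · intro hi
      have hk : k < m := by omega
      show (∑ j, M i j * ((M ^ k) *ᵥ e0) j) ≠ 0
      rw [Finset.sum_eq_single (⟨k, hk⟩ : Fin m)]
      · exact mul_ne_zero ((h i ⟨k, hk⟩).1 hi) ((ih ⟨k, hk⟩).1 rfl)
      · intro b _ hb
        have hb' : (b : ℕ) ≠ k := fun e => hb (Fin.ext e)
        rcases lt_or_gt_of_ne hb' with hl | hg
        · rw [(h i b).2 (by omega), zero_mul]
        · rw [(ih b).2 hg, mul_zero]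
      · simp
    · intro hi
      show (∑ j, M i j * ((M ^ k) *ᵥ e0) j) = 0
      apply Finset.sum_eq_zero
      intro b _
      by_cases hb : (b : ℕ) ≤ k
      · rw [(h i b).2 (by omega), zero_mul]
      · rw [(ih b).2 (by omega), mul_zero]

theorem Hess.inj {m : ℕ} {M : Matrix (Fin m) (Fin m) F} (h : Hess M) :
    Function.Injective (kry m M e0).mulVec := by
  rw [Matrix.mulVec_injective_iff_isUnit, Matrix.isUnit_iff_isUnit_det, isUnit_iff_ne_zero]
  have ht : (kry m M e0).IsUpperTriangular := by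
    intro i j hji
    exact (h.pow_e0 (j : ℕ) i).2 hji
  rw [Matrix.det_of_upperTriangular ht, Finset.prod_ne_zero_iff]
  exact fun i _ => (h.pow_e0 (i : ℕ) i).1 rfl

theorem Hess.msim {m : ℕ} {M : Matrix (Fin m) (Fin m) F} (h : Hess M) {f : F[X]} (hf : f.Monic)
    (hd : f.natDegree = m) (h0 : aeval M f *ᵥ e0 = 0) : MSim M (comp m f) :=
  msim_comp hf hd e0 (by simp) h.inj h0

theorem hess_comp (m : ℕ) (f : F[X]) : Hess (comp m f) := by
  intro i j
  constructor
  · intro hi; simp [comp, hi, show (j : ℕ) + 1 < m by omega]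
  · intro hi
    have := i.2
    simp [comp, show (j : ℕ) + 1 < m by omega, show ¬ ((i : ℕ) = (j : ℕ) + 1) by omega]

theorem comp_pow_e0 {m : ℕ} (f : F[X]) : ∀ k, k < m → ∀ i : Fin m,
    ((comp m f ^ k) *ᵥ e0) i = if (i : ℕ) = k then 1 else 0 := by
  intro k
  induction k with
  | zero => intro _ i; simp [e0]
  | succ k ih =>
    intro hk i
    rw [pow_succ', ← Matrix.mulVec_mulVec]
    show (∑ j, comp m f i j * ((comp m f ^ k) *ᵥ e0) j) = _
    rw [Finset.sum_eq_single (⟨k, by omega⟩ : Fin m)]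
    · rw [ih (by omega)]; simp [comp, hk]
    · intro b _ hb
      rw [ih (by omega)]
      simp [show ¬ ((b : ℕ) = k) from fun e => hb (Fin.ext e)]
    · simp

theorem aeval_comp_e0 {m : ℕ} {f : F[X]} (hf : f.Monic) (hd : f.natDegree = m) :
    aeval (comp m f) f *ᵥ e0 = 0 := by
  rcases Nat.eq_zero_or_pos m with rfl | hm
  · funext i; exact i.elim0
  rw [aeval_mulVec hf hd]
  funext i
  have hp : ((comp m f ^ m) *ᵥ e0) i = -f.coeff i := by
    rw [show comp m f ^ m = comp m f * comp m f ^ (m - 1) by rw [← pow_succ']; congr 1; omega, ← Matrix.mulVec_mulVec]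
    show (∑ j, comp m f i j * ((comp m f ^ (m - 1)) *ᵥ e0) j) = _
    rw [Finset.sum_eq_single (⟨m - 1, by omega⟩ : Fin m)]
    · rw [comp_pow_e0 f _ (by omega)]; simp [comp, show ¬ (m - 1 + 1 < m) by omega]
    · intro b _ hb
      rw [comp_pow_e0 f _ (by omega)]
      simp [show ¬ ((b : ℕ) = m - 1) from fun e => hb (Fin.ext e)]
    · simp
  rw [Pi.add_apply, hp, Finset.sum_apply, Finset.sum_eq_single i]
  · simp [comp_pow_e0 f _ i.2]
  · intro b _ hb
    simp [comp_pow_e0 f _ b.2, show ¬ ((i : ℕ) = (b : ℕ)) from fun e => hb (Fin.ext e.symm)]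
  · simp

theorem comp_congr {m : ℕ} {f g : F[X]} (h : ∀ i < m, f.coeff i = g.coeff i) : comp m f = comp m g := by
  ext i j
  simp [comp, h i i.2]

theorem charpoly_comp {m : ℕ} {f : F[X]} (hf : f.Monic) (hd : f.natDegree = m) :
    (comp m f).charpoly = f := by
  have hq : (comp m f).charpoly.Monic := Matrix.charpoly_monic _
  have hqd : (comp m f).charpoly.natDegree = m := by rw [Matrix.charpoly_natDegree_eq_dim]; simp
  have h1 := aeval_comp_e0 hf hd
  have h2 : aeval (comp m f) (comp m f).charpoly *ᵥ e0 = 0 := by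
    rw [aeval_self_charpoly, Matrix.zero_mulVec]
  rw [aeval_mulVec hf hd] at h1
  rw [aeval_mulVec hq hqd] at h2
  have h3 : kry m (comp m f) e0 *ᵥ (fun i : Fin m => (comp m f).charpoly.coeff i) =
      kry m (comp m f) e0 *ᵥ (fun i : Fin m => f.coeff i) := by
    rw [kry_mulVec_eq, kry_mulVec_eq]
    exact add_left_cancel (h2.trans h1.symm)
  have h4 := (hess_comp m f).inj h3
  apply Polynomial.ext
  intro i
  rcases lt_trichotomy i m with hi | rfl | hi
  · exact congrFun h4 ⟨i, hi⟩
  · have e1 := hq.coeff_natDegree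
    have e2 := hf.coeff_natDegree
    rw [hqd] at e1; rw [hd] at e2
    rw [e1, e2]
  · rw [coeff_eq_zero_of_natDegree_lt (by omega), coeff_eq_zero_of_natDegree_lt (by omega)]

theorem det_comp {m : ℕ} {f : F[X]} (hf : f.Monic) (hd : f.natDegree = m) :
    (comp m f).det = (-1) ^ m * f.coeff 0 := by
  rw [Matrix.det_eq_sign_charpoly_coeff, charpoly_comp hf hd]; simp

/-- The coupling turning two companion blocks into a cyclic matrix. -/
def link (a b : ℕ) : Matrix (Fin b) (Fin a) F :=
  Matrix.of fun i j => if (i : ℕ) = 0 ∧ (j : ℕ) + 1 = a then 1 else 0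

/-- The companion matrix of a product of polynomials. -/
theorem msim_comp_mul {a b : ℕ} {f g : F[X]} (hf : f.Monic) (hfd : f.natDegree = a) (hg : g.Monic)
    (hgd : g.natDegree = b) :
    MSim (fromBlocks (comp a f) 0 (link a b) (comp b g)) (comp (a + b) (f * g)) := by
  set M := fromBlocks (comp a f) 0 (link a b) (comp b g)
  have e := MSim.submatrix M finSumFinEquiv.symm
  set N := M.submatrix finSumFinEquiv.symm finSumFinEquiv.symm with hN
  have hH : Hess N := by
    intro i j
    obtain ⟨i, rfl⟩ := finSumFinEquiv.surjective i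
    obtain ⟨j, rfl⟩ := finSumFinEquiv.surjective j
    simp only [hN, Matrix.submatrix_apply, Equiv.symm_apply_apply]
    rcases i with i | i <;> rcases j with j | j <;>
      simp only [M, fromBlocks_apply₁₁, fromBlocks_apply₁₂, fromBlocks_apply₂₁, fromBlocks_apply₂₂,
        finSumFinEquiv_apply_left, finSumFinEquiv_apply_right, Fin.val_castAdd, Fin.val_natAdd]
    · exact hess_comp a f i j
    · have := i.2
      exact ⟨fun h => by omega, fun _ => rfl⟩
    · have := j.2
      refine ⟨fun h => ?_, fun h => ?_⟩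
      · simp [link, show (i : ℕ) = 0 by omega, show (j : ℕ) + 1 = a by omega]
      · simp only [link, Matrix.of_apply]
        rw [if_neg]; omega
    · have h := hess_comp b g i j
      exact ⟨fun h' => h.1 (by omega), fun h' => h.2 (by omega)⟩
  refine e.symm.trans (hH.msim (hf.mul hg) (by rw [hf.natDegree_mul hg, hfd, hgd]) ?_)
  have hc : N.charpoly = f * g := by
    rw [e.charpoly_eq, Matrix.charpoly_fromBlocks_zero₁₂, charpoly_comp hf hfd, charpoly_comp hg hgd]
  rw [← hc, aeval_self_charpoly, Matrix.zero_mulVec]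

theorem msim_comp_mul_coprime {a b : ℕ} {f g : F[X]} (hf : f.Monic) (hfd : f.natDegree = a) (hg : g.Monic)
    (hgd : g.natDegree = b) (h : IsCoprime f g) :
    MSim (comp (a + b) (f * g)) (bd (comp a f) (comp b g)) := by
  exact (msim_comp_mul hf hfd hg hgd).symm.trans
    (MSim.lower (by rwa [charpoly_comp hf hfd, charpoly_comp hg hgd]) _)

theorem comp_one_eq (x : F) : comp 1 (X - C x) = sc x := by
  ext i j
  fin_cases i; fin_cases j
  simp [comp, sc]

theorem msim_comp_one {f : F[X]} {x : F} (h : f = X - C x) : MSim (comp 1 f) (sc x) :=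
  h ▸ MSim.of_eq (comp_one_eq x)

/-- A monic polynomial with prescribed constant term. -/
theorem exists_comp_noRoot [Fintype F] (t : ℕ) (ht : 2 ≤ t) {d : F} (hd : d ≠ 0) :
    ∃ f : F[X], f.Monic ∧ f.natDegree = t ∧ (-1) ^ t * f.coeff 0 = d ∧ ∀ r, f.eval r ≠ 0 := by
  classical
  set e : F := (-1) ^ t * d with he
  have he0 : e ≠ 0 := mul_ne_zero (pow_ne_zero _ (neg_ne_zero.2 one_ne_zero)) hd
  have hcard : (((Finset.univ : Finset F).erase 0).image fun r => -(r ^ t + e) / r) ≠ Finset.univ := by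
    intro h
    have h1 := Finset.card_image_le (s := (Finset.univ : Finset F).erase 0) (f := fun r => -(r ^ t + e) / r)
    rw [h, Finset.card_erase_of_mem (Finset.mem_univ _), Finset.card_univ] at h1
    have := Fintype.card_pos (α := F)
    omega
  obtain ⟨b, hb⟩ : ∃ b, b ∉ (((Finset.univ : Finset F).erase 0).image fun r => -(r ^ t + e) / r) := by
    by_contra h
    push Not at h
    exact hcard (Finset.eq_univ_iff_forall.2 h)
  have hdeg : (C b * X + C e : F[X]).degree < (t : WithBot ℕ) :=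
    lt_of_le_of_lt Polynomial.degree_linear_le (by exact_mod_cast ht)
  refine ⟨X ^ t + (C b * X + C e), monic_X_pow_add hdeg, ?_, ?_, ?_⟩
  · apply natDegree_eq_of_degree_eq_some
    rw [degree_add_eq_left_of_degree_lt (by rwa [degree_X_pow]), degree_X_pow]
  · simp only [coeff_add, Polynomial.coeff_X_pow, show ¬ (0 = t) by omega, coeff_C_mul, coeff_X_zero, coeff_C_zero, if_false, mul_zero, zero_add]
    simp [he, ← mul_assoc, ← mul_pow]
  · intro r hr
    simp at hr
    by_cases h0 : r = 0
    · subst h0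
      simp [show t ≠ 0 by omega] at hr
      exact he0 hr
    · apply hb
      rw [Finset.mem_image]
      exact ⟨r, by simp [h0], by field_simp; linear_combination -hr⟩

theorem isCoprime_X_sub_C {f : F[X]} {r : F} (h : f.eval r ≠ 0) : IsCoprime f (X - C r) :=
  IsCoprime.symm ((Polynomial.irreducible_X_sub_C r).coprime_iff_not_dvd.2
    fun hd => h (Polynomial.dvd_iff_isRoot.1 hd))

end Cfsg.Agent.Lib.ThompsonComm
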