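import Cfsg.Agent.Lib.ThompsonComm.Two
import Cfsg.Agent.Lib.ThompsonComm.Central

/-!
Every matrix of determinant one is a commutator, by induction along the rational canonical form.
-/

set_option autoImplicit false

namespace Cfsg.Agent.Lib.ThompsonComm

open Matrix Polynomial

variable {F : Type*} [Field F]

/-- What the minimal polynomial tells about a matrix. -/
theorem classify {N : ℕ} (hN : 0 < N) (g : Matrix (Fin N) (Fin N) F) (hg : g.det ≠ 0) :
    (∃ c : F, c ≠ 0 ∧ g = c • 1) ∨
    (∃ (h : F[X]) (t w : ℕ) (c : F), h.Monic ∧ h.natDegree = 2 ∧ h.coeff 0 ≠ 0 ∧ h ∣ minpoly F g ∧ 2 * (t + 1) + w = N ∧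
      (w = 0 ∨ h.eval c = 0) ∧
      MSim g (bd (q2 (Fin (t + 1)) (h.coeff 0) (-h.coeff 1)) (c • (1 : Matrix (Fin w) (Fin w) F)))) ∨
    (∃ (j w : ℕ) (D : F[X]) (g' : Matrix (Fin w) (Fin w) F), D.Monic ∧ D.natDegree = j + 3 ∧ D.coeff 0 ≠ 0 ∧
      j + 3 + w = N ∧ aeval g' D = 0 ∧ MSim g (bd (comp (j + 3) D) g') ∧ g'.det ≠ 0 ∧ D = minpoly F g) := by
  haveI : Nonempty (Fin N) := ⟨⟨0, hN⟩⟩
  set d := minpoly F g with hd
  have hdm : d.Monic := minpoly.monic (Matrix.isIntegral g)
  have hpos : 0 < d.natDegree := minpoly.natDegree_pos (Matrix.isIntegral g)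
  have hd0 : d.coeff 0 ≠ 0 := by
    intro h0
    have hX : X ∣ g.charpoly := dvd_trans (Polynomial.X_dvd_iff.2 h0) (Matrix.minpoly_dvd_charpoly g)
    apply hg
    rw [Matrix.det_eq_sign_charpoly_coeff, Polynomial.X_dvd_iff.1 hX, mul_zero]
  rcases (show d.natDegree = 1 ∨ d.natDegree = 2 ∨ 3 ≤ d.natDegree by omega) with h1 | h2 | h3
  · left
    refine ⟨-d.coeff 0, neg_ne_zero.2 hd0, ?_⟩
    have he : d = X + C (d.coeff 0) := hdm.eq_X_add_C h1
    have := minpoly.aeval F g
    rw [← hd, he, map_add, aeval_X, aeval_C, Algebra.algebraMap_eq_smul_one] at this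
    rw [neg_smul]
    exact eq_neg_of_add_eq_zero_left this
  · right; left
    obtain ⟨t, w, c, htw, hc, hs⟩ := quad_class hdm h2 N g (minpoly.aeval F g)
    rcases Nat.eq_zero_or_pos t with rfl | ht
    · exfalso
      obtain ⟨P, Q, h1, h2', h3⟩ := hs.trans (MSim.empty_bd _ _)
      have hgc : g = c • 1 := by
        calc g = g * P * Q := by rw [Matrix.mul_assoc, h1, Matrix.mul_one]
          _ = c • 1 := by rw [h3]; simp [h1]
      have hdvd : d ∣ X - C c := minpoly.dvd F g (by simp [hgc, Algebra.algebraMap_eq_smul_one])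
      have := natDegree_le_of_dvd hdvd (X_sub_C_ne_zero c)
      rw [natDegree_X_sub_C] at this
      omega
    · obtain ⟨t, rfl⟩ := Nat.exists_eq_succ_of_ne_zero ht.ne'
      exact ⟨d, t, w, c, hdm, h2, hd0, dvd_refl _, htw, hc, hs⟩
  · right; right
    obtain ⟨w, g', hw, hg', hs⟩ := peel g hpos
    obtain ⟨j, hj⟩ : ∃ j, d.natDegree = j + 3 := ⟨d.natDegree - 3, by omega⟩
    rw [← hd, hj] at hw hs
    refine ⟨j, w, d, g', hdm, hj, hd0, hw, hg', hs, ?_, rfl⟩
    intro h0
    apply hg
    rw [hs.det_eq, bd, det_fromBlocks_zero₂₁, h0, mul_zero]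

theorem msim_q2_cast {t : ℕ} {w : ℕ} (hw : w = 0) (δ τ c : F) :
    MSim (bd (q2 (Fin t) δ τ) (c • (1 : Matrix (Fin w) (Fin w) F))) (q2 (Fin t) δ τ) := by
  subst hw; exact MSim.bd_empty _ _

theorem split_quad {h : F[X]} (hh : h.Monic) (hhd : h.natDegree = 2) (hh0 : h.coeff 0 ≠ 0) {c : F}
    (hc : h.eval c = 0) : ∃ c', c' ≠ 0 ∧ c ≠ 0 ∧ h.coeff 0 = c' * c ∧ h = (X - C c') * (X - C c) := by
  have hex : h = X ^ 2 + C (h.coeff 1) * X + C (h.coeff 0) := by
    conv_lhs => rw [hh.as_sum, hhd]
    simp [Finset.sum_range_succ]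
    ring
  rw [hex] at hc
  simp at hc
  have hc0 : c ≠ 0 := by rintro rfl; simp at hc; exact hh0 hc
  refine ⟨h.coeff 0 / c, div_ne_zero hh0 hc0, hc0, (div_mul_cancel₀ _ hc0).symm, ?_⟩
  have h1 : h.coeff 1 = -(h.coeff 0 / c + c) := by field_simp; linear_combination hc
  have h2 : C (h.coeff 0 / c) * C c = C (h.coeff 0) := by rw [← C_mul, div_mul_cancel₀ _ hc0]
  conv_lhs => rw [hex, h1]
  rw [← h2, map_neg, map_add]
  ring

theorem com_quad_scalar [Fintype F] (k : ℕ) {h : F[X]} (hh : h.Monic) (hhd : h.natDegree = 2) (hh0 : h.coeff 0 ≠ 0)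
    {c : F} (hc : h.eval c = 0)
    (hdet : (bd (comp 2 h) (c • (1 : Matrix (Fin (k + 1)) (Fin (k + 1)) F))).det = 1) :
    Com (bd (comp 2 h) (c • (1 : Matrix (Fin (k + 1)) (Fin (k + 1)) F))) := by
  classical
  obtain ⟨c', hc'0, hc0, -, hfac⟩ := split_quad hh hhd hh0 hc
  set w : Fin (k + 2) → F := fun i => if (i : ℕ) = 0 then c⁻¹ else 0 with hw
  let e : Fin 1 ⊕ Fin (k + 1) ≃ Fin (k + 2) := finSumFinEquiv.trans (finCongr (by omega))
  have ei : ∀ i, ((e (Sum.inl i)) : ℕ) = i := fun i => by simp [e]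
  have ej : ∀ i, ((e (Sum.inr i)) : ℕ) = i + 1 := fun i => by simp [e] <;> omega
  have hs : MSim (bd (comp 2 h) (c • (1 : Matrix (Fin (k + 1)) (Fin (k + 1)) F))) (c • psr (c' / c) w) := by
    have h1 := (msim_comp_mul (monic_X_sub_C c') (natDegree_X_sub_C c') (monic_X_sub_C c)
      (natDegree_X_sub_C c)).symm
    rw [← hfac, comp_one_eq, comp_one_eq] at h1
    refine (h1.bd (MSim.refl _)).trans ?_
    have e2 := MSim.submatrix (c • psr (c' / c) w) ((Equiv.sumAssoc _ _ _).trans (Equiv.sumCongr (Equiv.refl _) e))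
    refine (MSim.of_eq ?_).trans e2
    ext ((i | i) | i) ((j | j) | j)
    all_goals simp only [Matrix.submatrix_apply, Equiv.trans_apply, Equiv.sumAssoc_apply_inl_inl,
      Equiv.sumAssoc_apply_inl_inr, Equiv.sumAssoc_apply_inr, Equiv.sumCongr_apply, Sum.map_inl, Sum.map_inr,
      Equiv.refl_apply, Matrix.smul_apply, fromBlocks_apply₁₁, fromBlocks_apply₁₂, fromBlocks_apply₂₁,
      fromBlocks_apply₂₂, link, Matrix.of_apply, hw, ei, ej, Matrix.one_apply, Matrix.zero_apply, e.injective.eq_iff,
      Sum.inl.injEq, Sum.inr.injEq, smul_eq_mul]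
    all_goals first
      | (simp; done)
      | (split_ifs <;> first | (exfalso; omega) | (field_simp; done) | simp_all | omega)
  refine Com.congr ?_ hs
  have hd := hs.det_eq
  rw [hdet, det_smul, det_fromBlocks_zero₁₂, det_sc, det_one, mul_one, Fintype.card_sum, Fintype.card_fin,
    Fintype.card_fin, show 1 + (k + 2) = k + 3 by omega] at hd
  by_cases h1 : c = 1
  · subst h1
    rw [one_smul]
    rw [one_pow, one_mul] at hd
    rw [← hd]
    exact com_psr_one k
  · refine com_smul_psr k hc0 h1 hd.symm ?_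
    exact Function.ne_iff.2 ⟨⟨0, by omega⟩, by simp [hw, hc0]⟩

variable [Fintype F]

theorem cond_ge_four (hF : 4 ≤ Fintype.card F) (δ μ : F) : ∃ ε, ε ≠ 0 ∧ ε ≠ μ ∧ ε ≠ μ * δ :=
  exists_ne_three hF 0 μ (μ * δ)

theorem two_piece (hF : 3 ≤ Fintype.card F) {h : F[X]} (hh : h.Monic) (hhd : h.natDegree = 2)
    (hh0 : h.coeff 0 ≠ 0) : Piece (comp 2 h) ∨ BadPoly h := by
  rcases (show Fintype.card F = 3 ∨ 4 ≤ Fintype.card F by omega) with h3 | h4
  · rcases eq_one_or_neg h3 hh0 with h1 | h1
    · left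
      refine (piece_q2_one _ fun μ hμ => ⟨-μ, neg_ne_zero.2 hμ, ?_, ?_⟩).congr comp_two
      · intro e
        exact neg_one_ne_one h3 (mul_right_cancel₀ hμ (by linear_combination e))
      · rw [h1, mul_one]
        intro e
        exact neg_one_ne_one h3 (mul_right_cancel₀ hμ (by linear_combination e))
    · by_cases hr : ∃ c, h.eval c = 0
      · left
        obtain ⟨c, hc⟩ := hr
        obtain ⟨c', hc'0, hc0, hp, hfac⟩ := split_quad hh hhd hh0 hc
        have hne : c ≠ c' := by
          rintro rfl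
          rcases eq_one_or_neg h3 hc0 with rfl | rfl <;>
            exact neg_one_ne_one h3 (by linear_combination hp - h1)
        have hco : IsCoprime (X - C c') (X - C c) := by
          refine isCoprime_X_sub_C ?_
          simpa [sub_eq_zero] using hne
        have hs := msim_comp_mul_coprime (monic_X_sub_C c') (natDegree_X_sub_C c') (monic_X_sub_C c)
          (natDegree_X_sub_C c) hco
        rw [← hfac, comp_one_eq, comp_one_eq] at hs
        exact (Piece.bd (by rw [det_sc]; exact hc'0) piece_sc piece_sc).congr hs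
      · right
        exact ⟨h3, h1, fun r hr' => hr ⟨r, hr'⟩⟩
  · exact Or.inl ((piece_q2_one _ fun μ _ => cond_ge_four h4 _ μ).congr comp_two)

theorem piece_or_bad (hF : 3 ≤ Fintype.card F) : ∀ (N : ℕ), 0 < N → ∀ g : Matrix (Fin N) (Fin N) F, g.det ≠ 0 →
    Piece g ∨ ∃ h : F[X], h.Monic ∧ h.natDegree = 2 ∧ BadPoly h ∧ MSim g (comp 2 h) := by
  intro N
  induction N using Nat.strong_induction_on with
  | _ N ih =>
    intro hN g hg
    rcases classify hN g hg with ⟨c, hc, rfl⟩ | ⟨h, t, w, c, hh, hhd, hh0, -, htw, hc, hs⟩ |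
      ⟨j, w, D, g', hD, hDd, hD0, hjw, -, hs, hg', -⟩
    · obtain ⟨k, rfl⟩ := Nat.exists_eq_succ_of_ne_zero hN.ne'
      exact Or.inl (piece_smul_one hc k)
    · have hqd : (q2 (Fin (t + 1)) (h.coeff 0) (-h.coeff 1)).det ≠ 0 := by
        rw [det_q2]; exact pow_ne_zero _ hh0
      rcases Nat.eq_zero_or_pos w with hw | hw
      · have hs' := hs.trans (msim_q2_cast hw _ _ _)
        rcases t with _ | t
        · rcases two_piece hF hh hhd hh0 with hp | hb
          · exact Or.inl (hp.congr (hs'.trans comp_two.symm))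
          · exact Or.inr ⟨h, hh, hhd, hb, hs'.trans comp_two.symm⟩
        · exact Or.inl ((free_q2 t hh0 _).piece.congr hs')
      · have hroot : h.eval c = 0 := hc.resolve_left hw.ne'
        obtain ⟨c', -, hc0, -, -⟩ := split_quad hh hhd hh0 hroot
        obtain ⟨w, rfl⟩ := Nat.exists_eq_succ_of_ne_zero hw.ne'
        left
        refine (Piece.bd hqd ?_ (piece_smul_one hc0 w)).congr hs
        rcases t with _ | t
        · rcases two_piece hF hh hhd hh0 with hp | hb
          · exact hp.congr comp_two.symm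
          · exact absurd hroot (hb.2.2 c)
        · exact (free_q2 t hh0 _).piece
    · have hfree := free_comp hF j hD hDd hD0
      have hdD : (comp (j + 3) D).det ≠ 0 := by rw [det_comp hD hDd]; simp [hD0]
      rcases Nat.eq_zero_or_pos w with rfl | hw
      · exact Or.inl (hfree.piece.congr (hs.trans (MSim.bd_empty _ _)))
      · rcases ih w (by omega) hw g' hg' with hp | ⟨h, hh, hhd, hb, hs'⟩
        · exact Or.inl ((Piece.bd hdD hfree.piece hp).congr hs)
        · exact Or.inl ((piece_pair j hD hDd hD0 hh hhd hb).congr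
            (hs.trans (((MSim.refl _).bd hs').trans (MSim.bd_comm _ _))))

theorem com_big (hF : 3 ≤ Fintype.card F) {N : ℕ} (hN : 2 ≤ N) (hex : N = 2 → 4 ≤ Fintype.card F)
    (g : Matrix (Fin N) (Fin N) F) (hg : g.det = 1) : Com g := by
  have hg0 : g.det ≠ 0 := by rw [hg]; exact one_ne_zero
  rcases classify (by omega) g hg0 with ⟨c, hc, rfl⟩ | ⟨h, t, w, c, hh, hhd, hh0, -, htw, hc, hs⟩ |
    ⟨j, w, D, g', hD, hDd, hD0, hjw, -, hs, hg', -⟩
  · exact com_scalar (by omega) (by simpa using hg)
  · have hqd : (q2 (Fin (t + 1)) (h.coeff 0) (-h.coeff 1)).det ≠ 0 := by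
      rw [det_q2]; exact pow_ne_zero _ hh0
    rcases Nat.eq_zero_or_pos w with hw | hw
    · have hs' := hs.trans (msim_q2_cast hw _ _ _)
      rcases t with _ | t
      · refine Com.congr ?_ hs'
        have hδ : h.coeff 0 = 1 := by
          have := hs'.det_eq
          rw [hg, det_q2] at this
          simpa using this.symm
        obtain ⟨μ, h1, h2, h3⟩ := exists_ne_three (hex (by omega)) 0 (1 : F) (-1)
        have hne : μ⁻¹ ≠ μ := by
          intro e
          have : μ * μ = 1 := by nth_rewrite 2 [← e]; exact mul_inv_cancel₀ h1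
          rcases mul_self_eq_one_iff.1 this with h | h
          · exact h2 h
          · exact h3 h
        refine Slot.com (μ := μ) ?_ (by rw [det_q2, hδ]; simp)
        have := slot_q2_one (δ := h.coeff 0) (-h.coeff 1) μ μ⁻¹ hne (by rw [hδ, mul_one]; exact hne)
        rwa [mul_inv_cancel₀ h1] at this
      · exact ((free_q2 t hh0 _).congr hs').com hg
    · have hroot : h.eval c = 0 := hc.resolve_left hw.ne'
      obtain ⟨c', -, hc0, -, -⟩ := split_quad hh hhd hh0 hroot
      obtain ⟨w, rfl⟩ := Nat.exists_eq_succ_of_ne_zero hw.ne'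
      rcases t with _ | t
      · have hs' := hs.trans ((comp_two (h := h)).symm.bd (MSim.refl _))
        exact (com_quad_scalar w hh hhd hh0 hroot (by rw [← hs'.det_eq]; exact hg)).congr hs'
      · exact ((Free.bd_piece hqd (free_q2 t hh0 _) (piece_smul_one hc0 w)).congr hs).com hg
  · have hfree := free_comp hF j hD hDd hD0
    have hdD : (comp (j + 3) D).det ≠ 0 := by rw [det_comp hD hDd]; simp [hD0]
    rcases Nat.eq_zero_or_pos w with rfl | hw
    · exact (hfree.congr (hs.trans (MSim.bd_empty _ _))).com hg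
    · rcases piece_or_bad hF w hw g' hg' with hp | ⟨h, hh, hhd, hb, hs'⟩
      · exact ((Free.bd_piece hdD hfree hp).congr hs).com hg
      · have hs2 := hs.trans (((MSim.refl _).bd hs').trans (MSim.bd_comm _ _))
        exact (com_pair j hD hDd hD0 hh hhd hb (by rw [← hs2.det_eq]; exact hg)).congr hs2

theorem com_two_or (hF : Fintype.card F = 2) : ∀ (N : ℕ), 0 < N → ∀ g : Matrix (Fin N) (Fin N) F, g.det ≠ 0 →
    Com g ∨ (N = 2 ∧ (hu : F[X]) ∣ minpoly F g ∧ MSim g (comp 2 (hu : F[X]))) := by
  have hone := two_one hF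
  intro N
  induction N using Nat.strong_induction_on with
  | _ N ih =>
    intro hN g hg
    rcases classify hN g hg with ⟨c, hc, rfl⟩ | ⟨h, t, w, c, hh, hhd, hh0, hdvd, htw, hc, hs⟩ |
      ⟨j, w, D, g', hD, hDd, hD0, hjw, hann, hs, hg', -⟩
    · left; rw [hone c hc, one_smul]; exact Com.one
    · have hδ : h.coeff 0 = 1 := hone _ hh0
      rcases t with _ | t
      · rcases Nat.eq_zero_or_pos w with hw | hw
        · have hs' := (hs.trans (msim_q2_cast hw _ _ _)).trans comp_two.symm
          by_cases hb : h.coeff 1 = 0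
          · right
            have hex : h = hu := by
              conv_lhs => rw [hh.as_sum, hhd]
              simp [Finset.sum_range_succ, hb, hδ, hu]
            exact ⟨by omega, hex ▸ hdvd, hex ▸ hs'⟩
          · left
            refine Com.congr ⟨!![1, 0; 1, 1], !![1, 1; 0, 1], by simp [Matrix.det_fin_two],
              by simp [Matrix.det_fin_two], ?_⟩ hs'
            have h2 := two_eq_zero hF
            have n1 : (-1 : F) = 1 := by linear_combination -h2
            ext i j
            fin_cases i <;> fin_cases j <;>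
              simp [comp, Matrix.mul_apply, Fin.sum_univ_two, hδ, hone _ hb, n1] <;> linear_combination h2
        · left
          have hroot : h.eval c = 0 := hc.resolve_left hw.ne'
          obtain ⟨w, rfl⟩ := Nat.exists_eq_succ_of_ne_zero hw.ne'
          have hs' := hs.trans ((comp_two (h := h)).symm.bd (MSim.refl _))
          exact (com_quad_scalar w hh hhd hh0 hroot (by rw [← hs'.det_eq]; exact hone _ hg)).congr hs'
      · left
        refine Com.congr ?_ hs
        refine Com.bd ((free_q2 t hh0 _).com (hone _ (by rw [det_q2]; exact pow_ne_zero _ hh0))) ?_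
        rcases hc with hw | hroot
        · subst hw
          exact ⟨1, 1, det_one, det_one, by ext i; exact i.elim0⟩
        · obtain ⟨c', -, hc0, -, -⟩ := split_quad hh hhd hh0 hroot
          rw [hone c hc0, one_smul]; exact Com.one
    · left
      have hcD : Com (comp (j + 3) D) := com_comp_two hF j hD hDd hD0
      rcases Nat.eq_zero_or_pos w with rfl | hw
      · exact hcD.congr (hs.trans (MSim.bd_empty _ _))
      · rcases ih w (by omega) hw g' hg' with hp | ⟨-, hdvd, hs'⟩
        · exact (hcD.bd hp).congr hs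
        · have hdiv : (hu : F[X]) ∣ D := hdvd.trans (minpoly.dvd F g' hann)
          obtain ⟨e, he⟩ := hdiv
          have hem : e.Monic := hu_monic.of_mul_monic_left (he ▸ hD)
          have hed : e.natDegree = j + 1 := by
            have := congrArg natDegree he
            rw [hu_monic.natDegree_mul hem, hu_natDegree, hDd] at this
            omega
          have he0 : e.coeff 0 ≠ 0 := by
            intro h0
            apply hD0
            rw [he, Polynomial.mul_coeff_zero, h0, mul_zero]
          have hcomp := com_j2 hF hem hed he0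
          rw [mul_comm e, ← he] at hcomp
          exact hcomp.congr (hs.trans (((MSim.refl _).bd hs').trans (MSim.bd_comm _ _)))

/-- Thompson's theorem. -/
theorem com_of_det_one {N : ℕ} (hN : 2 ≤ N) (hex : N = 2 → 4 ≤ Fintype.card F)
    (g : Matrix (Fin N) (Fin N) F) (hg : g.det = 1) : Com g := by
  rcases (show Fintype.card F = 2 ∨ 3 ≤ Fintype.card F by
    have : 1 < Fintype.card F := Fintype.one_lt_card
    omega) with h2 | h3
  · rcases com_two_or h2 N (by omega) g (by rw [hg]; exact one_ne_zero) with h | ⟨hN2, -, -⟩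
    · exact h
    · have := hex hN2; omega
  · exact com_big h3 hN hex g hg

end Cfsg.Agent.Lib.ThompsonComm
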