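import Cfsg.Agent.Lib.ThompsonComm.Krylov

/-!
Elements with quadratic minimal polynomial.
-/

set_option autoImplicit false

namespace Cfsg.Agent.Lib.ThompsonComm

open Matrix Polynomial

variable {F : Type*} [Field F]
variable {α β : Type} [Fintype α] [DecidableEq α] [Fintype β] [DecidableEq β]

/-- Homogeneous quadratic element. -/
abbrev q2 (α : Type) [DecidableEq α] (δ τ : F) : Matrix (α ⊕ α) (α ⊕ α) F :=
  fromBlocks 0 (-(δ • 1)) 1 (τ • 1)

theorem q2_sum (δ τ : F) : MSim (bd (q2 α δ τ) (q2 β δ τ)) (q2 (α ⊕ β) δ τ) := by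
  have h := MSim.submatrix (q2 (α ⊕ β) δ τ) (Equiv.sumSumSumComm α α β β)
  refine (MSim.of_eq ?_).trans h
  ext ((i | i) | (i | i)) ((j | j) | (j | j)) <;> simp [Matrix.one_apply]

theorem q2_congr (δ τ : F) (e : α ≃ β) : MSim (q2 α δ τ) (q2 β δ τ) := by
  have h := MSim.submatrix (q2 β δ τ) (Equiv.sumCongr e e)
  refine (MSim.of_eq ?_).trans h
  ext (i | i) (j | j) <;> simp [Matrix.one_apply]

theorem comp_two {h : F[X]} : MSim (comp 2 h) (q2 (Fin 1) (h.coeff 0) (-h.coeff 1)) := by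
  let e : Fin 1 ⊕ Fin 1 ≃ Fin 2 := finSumFinEquiv
  have e1 : e (Sum.inl 0) = 0 := rfl
  have e2 : e (Sum.inr 0) = 1 := rfl
  refine (MSim.submatrix (comp 2 h) e).symm.trans (MSim.of_eq ?_)
  ext (i | i) (j | j) <;> rw [Subsingleton.elim i 0, Subsingleton.elim j 0, Matrix.submatrix_apply] <;>
    simp [comp, q2, e1, e2]

theorem q2_conj (δ τ : F) (P T : Matrix α α F) :
    MSim (q2 α δ τ * fromBlocks P ((1 - τ) • T + δ • P) 0 T) (fromBlocks (δ • P) 0 P T) := by
  refine ⟨fromBlocks 1 (-(δ • 1)) 0 1, fromBlocks 1 (δ • 1) 0 1, ?_, ?_, ?_⟩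
  · simp [fromBlocks_multiply, fromBlocks_one]
  · simp [fromBlocks_multiply, fromBlocks_one]
  · simp only [fromBlocks_multiply, fromBlocks_inj, Matrix.neg_mul, Matrix.mul_neg, Matrix.smul_mul,
      Matrix.mul_smul, Matrix.one_mul, Matrix.mul_one, Matrix.mul_zero, Matrix.zero_mul, add_zero, zero_add]
    refine ⟨by simp, by simp, by simp, ?_⟩
    ext i j
    simp
    ring

theorem det_q2 (δ τ : F) : (q2 α δ τ).det = δ ^ Fintype.card α := by
  have h := (q2_conj δ τ (1 : Matrix α α F) 1).det_eq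
  rw [det_mul, det_fromBlocks_zero₂₁, det_fromBlocks_zero₁₂] at h
  simpa using h

theorem quad_slot (s : ℕ) {δ : F} (τ : F) (μ : F) (T : Matrix (Fin (s + 1)) (Fin (s + 1)) F)
    (hroots : ∀ i : ℕ, i ≤ s + 1 → T.charpoly.eval (μ * δ ^ i) ≠ 0) :
    Slot (q2 (Fin (s + 1)) δ τ) μ ((∏ i : Fin (s + 1), μ * δ ^ (i : ℕ)) * T.det) := by
  set P : Matrix (Fin (s + 1)) (Fin (s + 1)) F := diagonal fun i => μ * δ ^ (i : ℕ) with hP
  set P' : Matrix (Fin s) (Fin s) F := diagonal fun i => μ * δ ^ ((i : ℕ) + 1) with hP'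
  have cop : ∀ f : Fin (s + 1) → ℕ, (∀ i, f i ≤ s + 1) →
      IsCoprime (diagonal fun i => μ * δ ^ f i).charpoly T.charpoly := by
    intro f hf
    rw [Matrix.charpoly_diagonal]
    exact IsCoprime.prod_left fun i _ => (isCoprime_X_sub_C (hroots _ (hf i))).symm
  let e1 : Fin s ⊕ Fin 1 ≃ Fin (s + 1) := (Equiv.sumComm _ _).trans (finSumFinEquiv.trans (finCongr (Nat.add_comm 1 s)))
  let e2 : Fin s ⊕ Fin 1 ≃ Fin (s + 1) := finSumFinEquiv
  have k1 : MSim P (bd P' (sc μ)) := by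
    refine (MSim.submatrix P e1).symm.trans (MSim.of_eq ?_)
    rw [hP, hP', Matrix.submatrix_diagonal_equiv, show sc μ = diagonal (fun _ : Fin 1 => μ) from smul_one_eq_diagonal μ,
      bd, fromBlocks_diagonal]
    congr 1
    funext i
    rcases i with i | i <;> simp [e1, add_comm]
  have k2 : MSim (δ • P) (bd P' (sc (μ * δ ^ (s + 1)))) := by
    refine (MSim.submatrix (δ • P) e2).symm.trans (MSim.of_eq ?_)
    rw [hP, hP', ← diagonal_smul, Matrix.submatrix_diagonal_equiv,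
      show sc (μ * δ ^ (s + 1)) = diagonal (fun _ : Fin 1 => μ * δ ^ (s + 1)) from smul_one_eq_diagonal _,
      bd, fromBlocks_diagonal]
    congr 1
    funext i
    rcases i with i | i <;> simp [e2, pow_succ] <;> ring
  refine Slot.of (μ' := μ * δ ^ (s + 1)) (by rw [det_q2, Fintype.card_fin]) (bd P' T)
    (fromBlocks P ((1 - τ) • T + δ • P) 0 T) (by simp [hP]) ?_ ?_
  · exact (MSim.upper (cop (fun i => i) fun i => by omega) _).trans
      ((k1.bd (MSim.refl T)).trans (MSim.bd_right_comm _ _ _))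
  · refine (q2_conj δ τ P T).trans ((MSim.lower ?_ P).trans
      ((k2.bd (MSim.refl T)).trans (MSim.bd_right_comm _ _ _)))
    have : δ • P = diagonal fun i : Fin (s + 1) => μ * δ ^ ((i : ℕ) + 1) := by
      rw [hP, ← diagonal_smul]; congr 1; funext i; simp [pow_succ]; ring
    rw [this]
    exact cop (fun i => (i : ℕ) + 1) fun i => by omega

theorem free_q2 [Fintype F] (s : ℕ) {δ : F} (hδ : δ ≠ 0) (τ : F) : Free (q2 (Fin (s + 2)) δ τ) := by
  intro μ d hμ hd
  have hp : (∏ i : Fin (s + 2), μ * δ ^ (i : ℕ)) ≠ 0 :=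
    Finset.prod_ne_zero_iff.2 fun i _ => mul_ne_zero hμ (pow_ne_zero _ hδ)
  obtain ⟨f, hf, hfd, hf0, hr⟩ := exists_comp_noRoot (F := F) (s + 2) (by omega) (div_ne_zero hd hp)
  have h := quad_slot (s + 1) τ μ (δ := δ) (comp (s + 2) f) fun i _ => by rw [charpoly_comp hf hfd]; exact hr _
  rwa [det_comp hf hfd, hf0, mul_div_cancel₀ _ hp] at h

theorem slot_q2_one {δ : F} (τ μ ε : F) (h1 : ε ≠ μ) (h2 : ε ≠ μ * δ) :
    Slot (q2 (Fin 1) δ τ) μ (μ * ε) := by
  have h := quad_slot 0 τ μ (δ := δ) (sc ε) fun i hi => by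
    rw [show (sc ε).charpoly = X - C ε by
      rw [show sc ε = diagonal (fun _ : Fin 1 => ε) from smul_one_eq_diagonal ε, Matrix.charpoly_diagonal]; simp]
    rcases (show i = 0 ∨ i = 1 by omega) with rfl | rfl
    · simpa [sub_eq_zero] using h1.symm
    · simpa [sub_eq_zero] using h2.symm
  simpa [det_sc] using h

theorem piece_q2_one {δ : F} (τ : F)
    (h : ∀ μ : F, μ ≠ 0 → ∃ ε, ε ≠ 0 ∧ ε ≠ μ ∧ ε ≠ μ * δ) : Piece (q2 (Fin 1) δ τ) := by
  intro μ hμ
  obtain ⟨ε, h0, h1, h2⟩ := h μ hμ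
  exact ⟨μ * ε, mul_ne_zero hμ h0, slot_q2_one τ μ ε h1 h2⟩

/-! ### One quadratic block and a scalar -/

theorem exists_move {N : ℕ} {w w' : Fin N → F} (hw : w ≠ 0) (hw' : w' ≠ 0) :
    ∃ P Q : Matrix (Fin N) (Fin N) F, P * Q = 1 ∧ Q * P = 1 ∧ P *ᵥ w = w' := by
  classical
  obtain ⟨j, hj⟩ := Function.ne_iff.1 hw
  obtain ⟨j', hj'⟩ := Function.ne_iff.1 hw'
  have key : ∀ (u : Fin N → F) (i : Fin N), u i ≠ 0 →
      IsUnit ((1 : Matrix (Fin N) (Fin N) F).updateCol i u).det ∧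
      (1 : Matrix (Fin N) (Fin N) F).updateCol i u *ᵥ Pi.single i 1 = u := by
    intro u i hi
    constructor
    · rw [isUnit_iff_ne_zero, ← Matrix.cramer_apply, Matrix.cramer_one]; simpa using hi
    · rw [Matrix.mulVec_single_one]; ext k; simp
  obtain ⟨hA, eA⟩ := key w j hj
  obtain ⟨hB, eB⟩ := key w' j' hj'
  set A := (1 : Matrix (Fin N) (Fin N) F).updateCol j w
  set B := (1 : Matrix (Fin N) (Fin N) F).updateCol j' w'
  set S : Matrix (Fin N) (Fin N) F := (Equiv.swap j j').permMatrix F with hS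
  have hS2 : S * S = 1 := by
    rw [hS, ← Matrix.permMatrix_mul, Equiv.swap_mul_self]; simp
  refine ⟨B * S * A⁻¹, A * S * B⁻¹, ?_, ?_, ?_⟩
  · calc B * S * A⁻¹ * (A * S * B⁻¹) = B * S * (A⁻¹ * A) * (S * B⁻¹) := by simp [Matrix.mul_assoc]
      _ = B * (S * S) * B⁻¹ := by rw [Matrix.nonsing_inv_mul _ hA]; simp [Matrix.mul_assoc]
      _ = 1 := by rw [hS2, Matrix.mul_one, Matrix.mul_nonsing_inv _ hB]
  · calc A * S * B⁻¹ * (B * S * A⁻¹) = A * S * (B⁻¹ * B) * (S * A⁻¹) := by simp [Matrix.mul_assoc]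
      _ = A * (S * S) * A⁻¹ := by rw [Matrix.nonsing_inv_mul _ hB]; simp [Matrix.mul_assoc]
      _ = 1 := by rw [hS2, Matrix.mul_one, Matrix.mul_nonsing_inv _ hA]
  · conv_lhs => rw [← eA]
    rw [Matrix.mulVec_mulVec, Matrix.mul_assoc, Matrix.nonsing_inv_mul _ hA, Matrix.mul_one, ← Matrix.mulVec_mulVec]
    rw [show S *ᵥ Pi.single j 1 = Pi.single j' 1 by
      rw [hS, Matrix.permMatrix_mulVec]; ext k
      simp [Pi.single_apply, Equiv.swap_apply_eq_iff]]
    exact eB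

/-- Pseudo-reflection. -/
abbrev psr {N : ℕ} (ρ : F) (w : Fin N → F) : Matrix (Fin 1 ⊕ Fin N) (Fin 1 ⊕ Fin N) F :=
  fromBlocks (sc ρ) 0 (Matrix.of fun i _ => w i) 1

theorem psr_sim {N : ℕ} (ρ : F) {w w' : Fin N → F} (hw : w ≠ 0) (hw' : w' ≠ 0) (c : F) :
    MSim (c • psr ρ w') (c • psr ρ w) := by
  obtain ⟨P, Q, h1, h2, h3⟩ := exists_move hw hw'
  refine ⟨bd 1 P, bd 1 Q, by simp [fromBlocks_multiply, h1], by simp [fromBlocks_multiply, h2], ?_⟩
  rw [Matrix.smul_mul, Matrix.mul_smul]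
  congr 1
  simp only [fromBlocks_multiply]
  simp
  ext i j
  simp [← h3, Matrix.mul_apply, mulVec, dotProduct]

theorem exists_ne_two [Fintype F] (hF : 3 ≤ Fintype.card F) (a b : F) : ∃ x : F, x ≠ a ∧ x ≠ b := by
  classical
  have h : ({a, b} : Finset F).card < (Finset.univ : Finset F).card := by
    have := Finset.card_insert_le a ({b} : Finset F)
    simp at this ⊢; omega
  obtain ⟨x, -, hx⟩ := Finset.exists_mem_notMem_of_card_lt_card h
  simp at hx
  exact ⟨x, hx.1, hx.2⟩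

theorem com_psr_one [Fintype F] (k : ℕ) {w : Fin (k + 2) → F} : Com (psr 1 w) := by
  obtain ⟨f, hf, hfd, hf0, hr⟩ := exists_comp_noRoot (F := F) (k + 2) (by omega) (one_ne_zero (α := F))
  set T := comp (k + 2) f
  have hco : IsCoprime (sc (1 : F)).charpoly T.charpoly := by
    rw [charpoly_comp hf hfd, show (sc (1 : F)).charpoly = X - C 1 by
      rw [show sc (1 : F) = diagonal (fun _ : Fin 1 => 1) from smul_one_eq_diagonal 1, Matrix.charpoly_diagonal]; simp]
    exact (isCoprime_X_sub_C (hr 1)).symm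
  refine com_of_sims (a := bd (sc 1) T) (T := T) (μ := 1) ?_ (MSim.bd_comm _ _) ?_
  · simp [det_comp hf hfd, hf0, T]
  · rw [show psr 1 w * bd (sc 1) T = fromBlocks (sc 1) 0 (Matrix.of fun i _ => w i) T by
      simp [fromBlocks_multiply]]
    exact (MSim.lower hco _).trans (MSim.bd_comm _ _)

theorem com_smul_psr [Fintype F] (k : ℕ) {c ρ : F} (hc0 : c ≠ 0) (hc1 : c ≠ 1)
    (hρ : c ^ (k + 3) * ρ = 1) {w : Fin (k + 2) → F} (hw : w ≠ 0) : Com (c • psr ρ w) := by
  classical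
  have hF : 3 ≤ Fintype.card F := by
    have := Finset.card_le_univ ({0, 1, c} : Finset F)
    rwa [Finset.card_eq_three.2 ⟨0, 1, c, zero_ne_one, hc0.symm, hc1.symm, rfl⟩] at this
  obtain ⟨b, hb1, hb2⟩ := exists_ne_two hF 1 (-1 - (-1) ^ (k + 2))
  have hdeg : (C b * X ^ (k + 1) + C ((-1 : F) ^ (k + 2))).degree < ((k + 2 : ℕ) : WithBot ℕ) := by
    refine lt_of_le_of_lt (degree_add_le _ _) (max_lt ?_ ?_)
    · exact lt_of_le_of_lt (degree_C_mul_X_pow_le _ _) (by exact_mod_cast (Nat.lt_succ_self _))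
    · exact lt_of_le_of_lt degree_C_le (by exact_mod_cast (Nat.succ_pos _))
  set T : F[X] := X ^ (k + 2) + (C b * X ^ (k + 1) + C ((-1 : F) ^ (k + 2))) with hT
  have hTm : T.Monic := monic_X_pow_add hdeg
  have hTd : T.natDegree = k + 2 := by
    apply natDegree_eq_of_degree_eq_some
    rw [hT, degree_add_eq_left_of_degree_lt (by rwa [degree_X_pow]), degree_X_pow]
  have hT1 : T.eval 1 ≠ 0 := by
    simp [hT]
    exact fun h => hb2 (by linear_combination h)
  set f : F[X] := (X - C 1) * T with hf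
  have hfm : f.Monic := (monic_X_sub_C 1).mul hTm
  have hfd : f.natDegree = 1 + (k + 2) := by
    rw [hf, (monic_X_sub_C 1).natDegree_mul hTm, natDegree_X_sub_C, hTd]
  have hf0 : f.coeff 0 = -(-1 : F) ^ (k + 2) := by
    simp only [hf, hT, Polynomial.mul_coeff_zero, coeff_add, coeff_sub, coeff_X_zero, coeff_C_zero, coeff_C_mul, Polynomial.coeff_X_pow]
    simp
  have hfN : f.coeff (k + 2) = b - 1 := by
    have e : T.coeff (k + 2) = 1 := by
      have := hTm.coeff_natDegree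
      rwa [hTd] at this
    rw [hf, sub_mul, coeff_sub, coeff_X_mul, C_1, one_mul, e]
    simp only [hT, coeff_add, coeff_C_mul, Polynomial.coeff_X_pow, Polynomial.coeff_C]
    simp
  set γ : ℕ → F := fun i => f.coeff i * c ^ i / c ^ (k + 3) with hγ
  set w' : Fin (k + 2) → F := fun i => (γ ((i : ℕ) + 1) - f.coeff ((i : ℕ) + 1)) / f.coeff 0 with hw'
  have hf0' : f.coeff 0 ≠ 0 := by rw [hf0]; simp
  have hw'0 : w' ≠ 0 := by
    refine Function.ne_iff.2 ⟨⟨k + 1, by omega⟩, ?_⟩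
    simp only [hw', hγ, Pi.zero_apply, div_ne_zero_iff]
    refine ⟨?_, hf0'⟩
    rw [show k + 1 + 1 = k + 2 by omega, hfN, show c ^ (k + 3) = c ^ (k + 2) * c by ring]
    intro h
    have : (b - 1) * (1 - c) = 0 := by field_simp at h; linear_combination h
    rcases mul_eq_zero.1 this with h | h
    · exact hb1 (sub_eq_zero.1 h)
    · exact hc1 (sub_eq_zero.1 h).symm
  refine Com.congr ?_ (psr_sim ρ hw'0 hw c)
  let e : Fin 1 ⊕ Fin (k + 2) ≃ Fin (1 + (k + 2)) := finSumFinEquiv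
  set K : Matrix (Fin (1 + (k + 2))) (Fin (1 + (k + 2))) F := (c • psr ρ w').submatrix e.symm e.symm with hK
  refine Com.congr ?_ (MSim.submatrix (c • psr ρ w') e.symm).symm
  rw [← hK]
  set A := comp (1 + (k + 2)) f with hA
  set D : Fin (1 + (k + 2)) → F := fun i => c ^ (i : ℕ) with hD
  have key : K * A * diagonal D = diagonal D * A := by
    ext i j
    rw [Matrix.mul_diagonal, Matrix.diagonal_mul, Matrix.mul_apply, ← e.sum_comp, Fintype.sum_sum_type]
    obtain ⟨i, rfl⟩ := e.surjective i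
    have h10 : ∀ x : Fin 1, x = 0 := fun x => Subsingleton.elim _ _
    rcases i with i | i
    · rw [h10 i]
      simp only [hK, Matrix.submatrix_apply, Equiv.symm_apply_apply]
      simp [hA, hD, comp, e]
      split_ifs with h
      · simp
      · rw [show (j : ℕ) = k + 2 by omega]
        linear_combination (-(f.coeff 0)) * hρ
    · simp only [hK, Matrix.submatrix_apply, Equiv.symm_apply_apply]
      rw [Finset.sum_eq_single i (fun b _ hb => by simp [Ne.symm hb]) (by simp), Fin.sum_univ_one]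
      simp [hA, hD, comp, e, hw', hγ]
      split_ifs with h h1
      · rw [h1]; ring
      · simp
      · rw [show (j : ℕ) = k + 2 by omega, add_comm 1 (i : ℕ), show c ^ (k + 3) = c ^ (k + 2) * c by ring]
        field_simp
        ring
  have hdu : IsUnit (diagonal D).det := by
    rw [det_diagonal, isUnit_iff_ne_zero, Finset.prod_ne_zero_iff]
    exact fun i _ => pow_ne_zero _ hc0
  have hs : MSim (K * A) A := ⟨diagonal D, (diagonal D)⁻¹, Matrix.mul_nonsing_inv _ hdu,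
    Matrix.nonsing_inv_mul _ hdu, key⟩
  have hsplit : MSim A (bd (comp (k + 2) T) (sc (1 : F))) :=
    ((msim_comp_mul_coprime (monic_X_sub_C 1) (natDegree_X_sub_C 1) hTm hTd
      (isCoprime_X_sub_C hT1).symm).trans ((msim_comp_one rfl).bd (MSim.refl _))).trans (MSim.bd_comm _ _)
  refine com_of_sims ?_ hsplit (hs.trans hsplit)
  rw [hA, det_comp hfm hfd, hf0, show (1 + (k + 2)) = (k + 2) + 1 by omega, pow_succ]
  simp [← mul_pow]

end Cfsg.Agent.Lib.ThompsonComm
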