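import Mathlib

/-!
Similarity of matrices on different index types, and the calculus of "slots" used to show that
every element of a special linear group over a finite field is a commutator.
-/

set_option autoImplicit false

namespace Cfsg.Agent.Lib.ThompsonComm

open Matrix Polynomial

variable {F : Type*} [Field F]
variable {m n p m' n' : Type} [Fintype m] [DecidableEq m] [Fintype n] [DecidableEq n]
  [Fintype p] [DecidableEq p] [Fintype m'] [DecidableEq m'] [Fintype n'] [DecidableEq n']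

/-- The block diagonal sum. -/
abbrev bd (A : Matrix m m F) (B : Matrix n n F) : Matrix (m ⊕ n) (m ⊕ n) F := fromBlocks A 0 0 B

/-- The one by one matrix. -/
abbrev sc (x : F) : Matrix (Fin 1) (Fin 1) F := x • 1

theorem det_sc (x : F) : (sc x).det = x := by simp [sc]

/-- Similarity. -/
def MSim (A : Matrix m m F) (B : Matrix n n F) : Prop :=
  ∃ (P : Matrix m n F) (Q : Matrix n m F), P * Q = 1 ∧ Q * P = 1 ∧ A * P = P * B

namespace MSim

theorem refl (A : Matrix m m F) : MSim A A := ⟨1, 1, mul_one 1, mul_one 1, by simp⟩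

theorem symm {A : Matrix m m F} {B : Matrix n n F} (h : MSim A B) : MSim B A := by
  obtain ⟨P, Q, h1, h2, h3⟩ := h
  refine ⟨Q, P, h2, h1, ?_⟩
  calc B * Q = Q * P * B * Q := by rw [h2, Matrix.one_mul]
    _ = Q * (A * P) * Q := by rw [h3]; simp [Matrix.mul_assoc]
    _ = Q * A := by rw [Matrix.mul_assoc Q (A * P), Matrix.mul_assoc A, h1, Matrix.mul_one]

theorem trans {A : Matrix m m F} {B : Matrix n n F} {C : Matrix p p F} (h : MSim A B) (h' : MSim B C) :
    MSim A C := by
  obtain ⟨P, Q, h1, h2, h3⟩ := h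
  obtain ⟨P', Q', k1, k2, k3⟩ := h'
  refine ⟨P * P', Q' * Q, ?_, ?_, ?_⟩
  · rw [Matrix.mul_assoc, ← Matrix.mul_assoc P', k1, Matrix.one_mul, h1]
  · rw [Matrix.mul_assoc, ← Matrix.mul_assoc Q, h2, Matrix.one_mul, k2]
  · rw [← Matrix.mul_assoc, h3, Matrix.mul_assoc, k3, ← Matrix.mul_assoc]

theorem of_eq {A B : Matrix m m F} (h : A = B) : MSim A B := h ▸ refl A

/-- The linear equivalence behind a similarity. -/
theorem exists_conj {A : Matrix m m F} {B : Matrix n n F} (h : MSim A B) :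
    ∃ e : (n → F) ≃ₗ[F] (m → F), toLin' A = e.conj (toLin' B) := by
  obtain ⟨P, Q, h1, h2, h3⟩ := h
  have i1 : (toLin' P).comp (toLin' Q) = LinearMap.id := by rw [← toLin'_mul, h1, toLin'_one]
  have i2 : (toLin' Q).comp (toLin' P) = LinearMap.id := by rw [← toLin'_mul, h2, toLin'_one]
  refine ⟨LinearEquiv.ofLinearMap (toLin' P) (toLin' Q) i1 i2, ?_⟩
  have hA : A = P * B * Q := by rw [← h3, Matrix.mul_assoc, h1, Matrix.mul_one]
  apply LinearMap.ext
  intro x
  rw [LinearEquiv.conj_apply_apply, hA]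
  simp [Matrix.mulVec_mulVec, Matrix.mul_assoc]

theorem det_eq {A : Matrix m m F} {B : Matrix n n F} (h : MSim A B) : A.det = B.det := by
  obtain ⟨e, he⟩ := h.exists_conj
  rw [← LinearMap.det_toLin', he, LinearEquiv.conj_apply, LinearMap.comp_assoc, LinearMap.det_conj,
    LinearMap.det_toLin']

theorem charpoly_eq {A : Matrix m m F} {B : Matrix n n F} (h : MSim A B) : A.charpoly = B.charpoly := by
  obtain ⟨e, he⟩ := h.exists_conj
  rw [← Matrix.charpoly_toLin', he, LinearEquiv.charpoly_conj, Matrix.charpoly_toLin']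

theorem trace_eq {A : Matrix m m F} {B : Matrix n n F} (h : MSim A B) : A.trace = B.trace := by
  obtain ⟨P, Q, h1, h2, h3⟩ := h
  rw [show A = P * B * Q by rw [← h3, Matrix.mul_assoc, h1, Matrix.mul_one], Matrix.trace_mul_comm,
    ← Matrix.mul_assoc, h2, Matrix.one_mul]

theorem card_eq {A : Matrix m m F} {B : Matrix n n F} (h : MSim A B) : Fintype.card m = Fintype.card n := by
  obtain ⟨e, -⟩ := h.exists_conj
  have := e.finrank_eq
  simpa using this.symm

theorem submatrix (A : Matrix m m F) (e : n ≃ m) : MSim (A.submatrix e e) A := by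
  refine ⟨(1 : Matrix m m F).submatrix e id, (1 : Matrix m m F).submatrix id e, ?_, ?_, ?_⟩
  · rw [← Matrix.submatrix_mul _ _ e id e Function.bijective_id, Matrix.one_mul]
    exact Matrix.submatrix_one_equiv e
  · rw [← Matrix.submatrix_mul _ _ id e id e.bijective, Matrix.one_mul]
    exact Matrix.submatrix_one id Function.injective_id
  · ext i j
    rw [Matrix.mul_apply, Matrix.mul_apply, Finset.sum_eq_single (e.symm j), Finset.sum_eq_single (e i)]
    · simp [Matrix.one_apply]
    · intro b _ hb; simp [Matrix.one_apply, Ne.symm hb]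
    · simp
    · intro b _ hb
      simp [Matrix.one_apply, show e b ≠ j from fun h => hb (by rw [← h, e.symm_apply_apply])]
    · simp

theorem bd {A : Matrix m m F} {A' : Matrix m' m' F} {B : Matrix n n F} {B' : Matrix n' n' F}
    (h : MSim A A') (h' : MSim B B') : MSim (bd A B) (bd A' B') := by
  obtain ⟨P, Q, h1, h2, h3⟩ := h
  obtain ⟨P', Q', k1, k2, k3⟩ := h'
  exact ⟨fromBlocks P 0 0 P', fromBlocks Q 0 0 Q', by simp [fromBlocks_multiply, h1, k1],
    by simp [fromBlocks_multiply, h2, k2], by simp [fromBlocks_multiply, h3, k3]⟩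

theorem bd_comm (A : Matrix m m F) (B : Matrix n n F) :
    MSim (ThompsonComm.bd A B) (ThompsonComm.bd B A) := by
  have h := submatrix (ThompsonComm.bd B A) (Equiv.sumComm m n)
  rwa [show (ThompsonComm.bd B A).submatrix (Equiv.sumComm m n) (Equiv.sumComm m n) = ThompsonComm.bd A B by
    ext (i | i) (j | j) <;> rfl] at h

theorem bd_assoc (A : Matrix m m F) (B : Matrix n n F) (C : Matrix p p F) :
    MSim (ThompsonComm.bd (ThompsonComm.bd A B) C) (ThompsonComm.bd A (ThompsonComm.bd B C)) := by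
  have h := submatrix (ThompsonComm.bd A (ThompsonComm.bd B C)) (Equiv.sumAssoc m n p)
  rwa [show (ThompsonComm.bd A (ThompsonComm.bd B C)).submatrix (Equiv.sumAssoc m n p) (Equiv.sumAssoc m n p) =
      ThompsonComm.bd (ThompsonComm.bd A B) C by
    ext ((i | i) | i) ((j | j) | j) <;> rfl] at h

theorem bd_right_comm (A : Matrix m m F) (B : Matrix n n F) (C : Matrix p p F) :
    MSim (ThompsonComm.bd (ThompsonComm.bd A B) C) (ThompsonComm.bd (ThompsonComm.bd A C) B) :=
  (bd_assoc A B C).trans (((refl A).bd (bd_comm B C)).trans (bd_assoc A C B).symm)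

theorem empty_bd [IsEmpty m] (A : Matrix m m F) (B : Matrix n n F) : MSim (ThompsonComm.bd A B) B := by
  have h := submatrix B (Equiv.emptySum m n)
  rwa [show B.submatrix (Equiv.emptySum m n) (Equiv.emptySum m n) = ThompsonComm.bd A B by
    ext (i | i) (j | j)
    · exact isEmptyElim i
    · exact isEmptyElim i
    · exact isEmptyElim j
    · rfl] at h

theorem bd_empty [IsEmpty n] (A : Matrix m m F) (B : Matrix n n F) : MSim (ThompsonComm.bd A B) A :=
  (bd_comm A B).trans (empty_bd B A)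

end MSim

omit [DecidableEq n] in
theorem eq_zero_of_intertwine {A : Matrix m m F} {B : Matrix n n F} [DecidableEq n]
    (h : IsCoprime A.charpoly B.charpoly) {X : Matrix m n F} (hX : A * X = X * B) : X = 0 := by
  have key : ∀ q : F[X], aeval A q * X = X * aeval B q := by
    intro q
    induction q using Polynomial.induction_on' with
    | add a b ha hb => simp [Matrix.add_mul, Matrix.mul_add, ha, hb]
    | monomial k a =>
      simp only [aeval_monomial, Algebra.algebraMap_eq_smul_one, smul_mul_assoc, one_mul,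
        Matrix.smul_mul, Matrix.mul_smul]
      congr 1
      induction k with
      | zero => simp
      | succ k ih => rw [pow_succ', pow_succ, Matrix.mul_assoc, ih, ← Matrix.mul_assoc, hX, Matrix.mul_assoc,
          ← pow_succ', ← pow_succ]
  obtain ⟨u, v, huv⟩ := h
  have hu := congr(aeval A $huv)
  simp only [map_add, map_mul, map_one, aeval_self_charpoly, mul_zero, zero_add] at hu
  calc X = aeval A v * aeval A B.charpoly * X := by rw [hu, Matrix.one_mul]
    _ = 0 := by rw [Matrix.mul_assoc, key, aeval_self_charpoly, Matrix.mul_zero, Matrix.mul_zero]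

theorem exists_sylvester {A : Matrix m m F} {B : Matrix n n F} (h : IsCoprime A.charpoly B.charpoly)
    (C : Matrix m n F) : ∃ X : Matrix m n F, A * X - X * B = C := by
  let L : Matrix m n F →ₗ[F] Matrix m n F :=
    { toFun := fun X => A * X - X * B
      map_add' := fun X Y => by simp [Matrix.mul_add, Matrix.add_mul]; abel
      map_smul' := fun r X => by simp [smul_sub] }
  have hL : Function.Injective L := by
    rw [injective_iff_map_eq_zero]
    exact fun X hX => eq_zero_of_intertwine h (sub_eq_zero.1 hX)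
  exact LinearMap.injective_iff_surjective.1 hL C

/-- Coupling between coprime diagonal blocks is harmless. -/
theorem MSim.upper {A : Matrix m m F} {B : Matrix n n F} (h : IsCoprime A.charpoly B.charpoly)
    (C : Matrix m n F) : MSim (fromBlocks A C 0 B) (ThompsonComm.bd A B) := by
  obtain ⟨X, hX⟩ := exists_sylvester h C
  refine ⟨fromBlocks 1 (-X) 0 1, fromBlocks 1 X 0 1, ?_, ?_, ?_⟩
  · simp [fromBlocks_multiply, ← hX, fromBlocks_one]
  · simp [fromBlocks_multiply, ← hX, fromBlocks_one]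
  · simp [fromBlocks_multiply, ← hX, sub_eq_add_neg, add_comm, add_left_comm]

theorem MSim.lower {A : Matrix m m F} {B : Matrix n n F} (h : IsCoprime A.charpoly B.charpoly)
    (C : Matrix n m F) : MSim (fromBlocks A 0 C B) (ThompsonComm.bd A B) := by
  have e := MSim.submatrix (fromBlocks B C 0 A) (Equiv.sumComm m n)
  rw [show (fromBlocks B C 0 A).submatrix (Equiv.sumComm m n) (Equiv.sumComm m n) = fromBlocks A 0 C B by
    ext (i | i) (j | j) <;> rfl] at e
  exact e.trans ((MSim.upper h.symm C).trans (MSim.bd_comm B A))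

/-! ### Commutators -/

/-- `g` is a commutator of two matrices of determinant one. -/
def Com (g : Matrix n n F) : Prop :=
  ∃ a b : Matrix n n F, a.det = 1 ∧ b.det = 1 ∧ g * (b * a) = a * b

theorem Com.congr {g : Matrix n n F} {g' : Matrix m m F} (hg : Com g) (h : MSim g' g) : Com g' := by
  obtain ⟨a, b, ha, hb, hab⟩ := hg
  obtain ⟨P, Q, h1, h2, h3⟩ := h
  have key : ∀ x y : Matrix n n F, P * x * Q * (P * y * Q) = P * (x * y) * Q := by
    intro x y
    calc P * x * Q * (P * y * Q) = P * x * (Q * P) * y * Q := by simp [Matrix.mul_assoc]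
      _ = _ := by rw [h2]; simp [Matrix.mul_assoc]
  have hd : ∀ x : Matrix n n F, (P * x * Q).det = x.det := fun x =>
    MSim.det_eq ⟨P, Q, h1, h2, by rw [Matrix.mul_assoc, h2, Matrix.mul_one]⟩
  refine ⟨P * a * Q, P * b * Q, by rw [hd, ha], by rw [hd, hb], ?_⟩
  rw [key, key, show g' = P * g * Q by rw [← h3, Matrix.mul_assoc, h1, Matrix.mul_one], key, hab]

theorem Com.bd {g : Matrix n n F} {g' : Matrix m m F} (hg : Com g) (hg' : Com g') :
    Com (ThompsonComm.bd g g') := by
  obtain ⟨a, b, ha, hb, hab⟩ := hg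
  obtain ⟨a', b', ha', hb', hab'⟩ := hg'
  exact ⟨ThompsonComm.bd a a', ThompsonComm.bd b b', by simp [ha, ha'], by simp [hb, hb'],
    by simp [fromBlocks_multiply, hab, hab']⟩

theorem Com.one : Com (1 : Matrix n n F) := ⟨1, 1, det_one, det_one, by simp⟩

/-- `g a` and `a` are both similar to `X ⊕ [μ]`. -/
theorem com_of_sims {g a : Matrix n n F} {T : Matrix p p F} {μ : F} (ha : a.det = 1)
    (h₁ : MSim a (ThompsonComm.bd T (sc μ))) (h₂ : MSim (g * a) (ThompsonComm.bd T (sc μ))) : Com g := by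
  obtain ⟨P1, Q1, a1, a2, a3⟩ := h₁
  obtain ⟨P2, Q2, b1, b2, b3⟩ := h₂
  set t := (P2 * Q1).det with ht
  have hu : (P2 * Q1) * (P1 * Q2) = 1 := by
    rw [Matrix.mul_assoc, ← Matrix.mul_assoc Q1, a2, Matrix.one_mul, b1]
  have ht0 : t ≠ 0 := by
    intro h0
    have := congr(Matrix.det $hu)
    rw [det_mul, ← ht, h0, zero_mul, det_one] at this
    exact zero_ne_one this
  set D : Matrix (p ⊕ Fin 1) (p ⊕ Fin 1) F := ThompsonComm.bd 1 (sc t⁻¹) with hD
  set X := ThompsonComm.bd T (sc μ) with hX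
  have hDX : X * D = D * X := by simp [hD, hX, fromBlocks_multiply, smul_smul, mul_comm]
  refine ⟨P2 * D * Q1, a, ?_, ha, ?_⟩
  · have e : P2 * D * Q1 = (P2 * Q1) * (P1 * D * Q1) := by
      calc P2 * D * Q1 = P2 * (Q1 * P1) * D * Q1 := by rw [a2, Matrix.mul_one]
        _ = _ := by simp [Matrix.mul_assoc]
    have e2 : (P1 * D * Q1).det = D.det :=
      MSim.det_eq ⟨P1, Q1, a1, a2, by rw [Matrix.mul_assoc, a2, Matrix.mul_one]⟩
    rw [e, det_mul, e2, ← ht, hD]
    simp [ht0]
  · calc g * (a * (P2 * D * Q1)) = g * a * P2 * D * Q1 := by simp [Matrix.mul_assoc]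
      _ = P2 * (X * D) * Q1 := by rw [b3]; simp [Matrix.mul_assoc]
      _ = P2 * D * (Q1 * P1 * X * Q1) := by rw [hDX, a2, Matrix.one_mul]; simp [Matrix.mul_assoc]
      _ = P2 * D * Q1 * (a * P1 * Q1) := by rw [a3]; simp [Matrix.mul_assoc]
      _ = P2 * D * Q1 * a := by rw [Matrix.mul_assoc a, a1, Matrix.mul_one]

/-- Over the field of two elements similarity in the general linear group is enough. -/
theorem com_of_two (hF : ∀ x : F, x ≠ 0 → x = 1) {g a : Matrix n n F} (hd : a.det ≠ 0)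
    (h : MSim (g * a) a) : Com g := by
  obtain ⟨P, Q, h1, h2, h3⟩ := h
  refine ⟨P, a, hF _ ?_, hF _ hd, by rw [← Matrix.mul_assoc]; exact h3⟩
  intro h0
  have := congr(Matrix.det $h1)
  rw [det_mul, h0, zero_mul, det_one] at this
  exact zero_ne_one this

/-! ### Slots -/

/-- `a` of determinant `d` with `a ∼ T ⊕ [μ]` and `g a ∼ T ⊕ [μ det g]`. -/
def Slot (g : Matrix n n F) (μ d : F) : Prop :=
  ∃ (k : ℕ) (T : Matrix (Fin k) (Fin k) F) (a : Matrix n n F), a.det = d ∧
    MSim a (ThompsonComm.bd T (sc μ)) ∧ MSim (g * a) (ThompsonComm.bd T (sc (μ * g.det)))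

theorem Slot.of {g : Matrix n n F} {μ μ' d : F} (hμ : μ' = μ * g.det) (T : Matrix p p F) (a : Matrix n n F) (ha : a.det = d)
    (h₁ : MSim a (ThompsonComm.bd T (sc μ))) (h₂ : MSim (g * a) (ThompsonComm.bd T (sc μ'))) :
    Slot g μ d := by
  subst hμ
  have e := (MSim.submatrix T (Fintype.equivFin p).symm).symm
  exact ⟨_, _, a, ha, h₁.trans (e.bd (MSim.refl _)), h₂.trans (e.bd (MSim.refl _))⟩

theorem Slot.congr {g : Matrix n n F} {g' : Matrix m m F} {μ d : F} (hg : Slot g μ d) (h : MSim g' g) :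
    Slot g' μ d := by
  obtain ⟨k, T, a, ha, h₁, h₂⟩ := hg
  have hdet := h.det_eq
  obtain ⟨P, Q, h1, h2, h3⟩ := h
  have hs : ∀ x : Matrix n n F, MSim (P * x * Q) x := fun x =>
    ⟨P, Q, h1, h2, by rw [Matrix.mul_assoc, h2, Matrix.mul_one]⟩
  refine ⟨k, T, P * a * Q, by rw [(hs a).det_eq, ha], (hs a).trans h₁, ?_⟩
  have e : g' * (P * a * Q) = P * (g * a) * Q := by
    rw [← Matrix.mul_assoc, ← Matrix.mul_assoc, h3]
    simp [Matrix.mul_assoc]
  rw [e, hdet]
  exact (hs _).trans h₂

theorem Slot.bd {g : Matrix n n F} {g' : Matrix m m F} {μ d d' : F} (hg : Slot g μ d)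
    (hg' : Slot g' (μ * g.det) d') : Slot (ThompsonComm.bd g g') μ (d * d') := by
  obtain ⟨k, T, a, ha, h₁, h₂⟩ := hg
  obtain ⟨k', T', a', ha', h₁', h₂'⟩ := hg'
  refine Slot.of (μ' := μ * g.det * g'.det) (by simp [mul_assoc]) (ThompsonComm.bd T (ThompsonComm.bd T' (sc (μ * g.det))))
    (ThompsonComm.bd a a') (by simp [ha, ha']) ?_ ?_
  · exact (h₁.bd h₁').trans (MSim.bd_right_comm _ _ _)
  · rw [show ThompsonComm.bd g g' * ThompsonComm.bd a a' = ThompsonComm.bd (g * a) (g' * a') by
      simp [fromBlocks_multiply]]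
    refine (h₂.bd h₂').trans ((MSim.bd_assoc _ _ _).symm.trans (MSim.bd ?_ (MSim.refl _)))
    exact (MSim.bd_assoc _ _ _).trans ((MSim.refl _).bd (MSim.bd_comm _ _))

theorem Slot.com {g : Matrix n n F} {μ : F} (hg : Slot g μ 1) (hdet : g.det = 1) : Com g := by
  obtain ⟨k, T, a, ha, h₁, h₂⟩ := hg
  rw [hdet, mul_one] at h₂
  exact com_of_sims ha h₁ h₂

/-- A slot for every value of `μ`. -/
def Piece (g : Matrix n n F) : Prop := ∀ μ : F, μ ≠ 0 → ∃ d, d ≠ 0 ∧ Slot g μ d

/-- A slot for every value of `μ` and of the determinant. -/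
def Free (g : Matrix n n F) : Prop := ∀ μ d : F, μ ≠ 0 → d ≠ 0 → Slot g μ d

theorem Free.piece {g : Matrix n n F} (h : Free g) : Piece g :=
  fun μ hμ => ⟨1, one_ne_zero, h μ 1 hμ one_ne_zero⟩

theorem Piece.congr {g : Matrix n n F} {g' : Matrix m m F} (h : Piece g) (e : MSim g' g) : Piece g' :=
  fun μ hμ => (h μ hμ).imp fun _ hd => ⟨hd.1, hd.2.congr e⟩

theorem Free.congr {g : Matrix n n F} {g' : Matrix m m F} (h : Free g) (e : MSim g' g) : Free g' :=
  fun μ d hμ hd => (h μ d hμ hd).congr e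

theorem Piece.bd {g : Matrix n n F} {g' : Matrix m m F} (hdet : g.det ≠ 0) (h : Piece g) (h' : Piece g') :
    Piece (ThompsonComm.bd g g') := by
  intro μ hμ
  obtain ⟨d, hd, s⟩ := h μ hμ
  obtain ⟨d', hd', s'⟩ := h' (μ * g.det) (mul_ne_zero hμ hdet)
  exact ⟨d * d', mul_ne_zero hd hd', s.bd s'⟩

theorem Free.bd_piece {g : Matrix n n F} {g' : Matrix m m F} (hdet : g.det ≠ 0) (h : Free g) (h' : Piece g') :
    Free (ThompsonComm.bd g g') := by
  intro μ d hμ hd
  obtain ⟨d', hd', s'⟩ := h' (μ * g.det) (mul_ne_zero hμ hdet)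
  have := (h μ (d / d') hμ (div_ne_zero hd hd')).bd s'
  rwa [div_mul_cancel₀ d hd'] at this

theorem Free.com {g : Matrix n n F} (h : Free g) (hdet : g.det = 1) : Com g :=
  (h 1 1 one_ne_zero one_ne_zero).com hdet

theorem piece_sc {c : F} : Piece (sc c) := by
  intro μ hμ
  refine ⟨μ, hμ, Slot.of (μ' := μ * c) (by simp) (1 : Matrix (Fin 0) (Fin 0) F) (sc μ) (det_sc μ)
    (MSim.empty_bd _ _).symm ?_⟩
  rw [show sc c * sc μ = sc (μ * c) by simp [sc, smul_smul, mul_comm]]
  exact (MSim.empty_bd _ _).symm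

theorem smul_one_sum (c : F) : (c • 1 : Matrix (m ⊕ n) (m ⊕ n) F) = ThompsonComm.bd (c • 1) (c • 1) := by
  rw [← fromBlocks_one, fromBlocks_smul]
  simp

theorem piece_smul_one {c : F} (hc : c ≠ 0) : ∀ k : ℕ, Piece (c • (1 : Matrix (Fin (k + 1)) (Fin (k + 1)) F))
  | 0 => piece_sc
  | k + 1 => by
    have h := Piece.bd (g := c • (1 : Matrix (Fin (k + 1)) (Fin (k + 1)) F)) (g' := sc c) (by simp [hc])
      (piece_smul_one hc k) piece_sc
    have e := MSim.submatrix (c • 1 : Matrix (Fin (k + 1 + 1)) (Fin (k + 1 + 1)) F) finSumFinEquiv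
    refine h.congr (e.symm.trans (MSim.of_eq ?_))
    rw [show sc c = c • (1 : Matrix (Fin 1) (Fin 1) F) from rfl, ← smul_one_sum]
    ext i j
    simp [Matrix.one_apply]

end Cfsg.Agent.Lib.ThompsonComm
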