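import Cfsg.Agent.Lib.ThompsonComm.Big

/-!
The field with two elements.
-/

set_option autoImplicit false

namespace Cfsg.Agent.Lib.ThompsonComm

open Matrix Polynomial

variable {F : Type*} [Field F]

theorem MSim.map {K : Type*} [Field K] (φ : K →+* F) {n m : Type} [Fintype n] [DecidableEq n] [Fintype m]
    [DecidableEq m] {A : Matrix n n K} {B : Matrix m m K} (h : MSim A B) : MSim (A.map φ) (B.map φ) := by
  obtain ⟨P, Q, h1, h2, h3⟩ := h
  refine ⟨P.map φ, Q.map φ, ?_, ?_, ?_⟩ <;> rw [← Matrix.map_mul]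
  · rw [h1]; simp
  · rw [h2]; simp
  · rw [h3, Matrix.map_mul]

theorem com_wit {n : ℕ} (φ : ZMod 2 →+* F) (hone : ∀ x : F, x ≠ 0 → x = 1)
    (g a ai P Pi : Matrix (Fin n) (Fin n) (ZMod 2)) (h : a * ai = 1 ∧ P * Pi = 1 ∧ Pi * P = 1 ∧ g * a * P = P * a) :
    Com (g.map φ) := by
  obtain ⟨h1, h2, h3, h4⟩ := h
  refine com_of_two (a := a.map φ) hone ?_ ?_
  · intro h0
    have := congr((Matrix.map $h1 φ).det)
    rw [Matrix.map_mul, det_mul, h0, zero_mul] at this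
    simp at this
  · rw [← Matrix.map_mul]
    exact MSim.map φ ⟨P, Pi, h2, h3, h4⟩

theorem msim_sum_assoc {a b c : ℕ} (A : Matrix (Fin a) (Fin a) F) (E : Matrix (Fin b) (Fin a) F)
    (B : Matrix (Fin b) (Fin b) F) (C : Matrix (Fin c) (Fin c) F) :
    MSim (bd (fromBlocks A 0 E B) C) (fromBlocks A 0 (fromRows E 0) (bd B C)) := by
  have e := MSim.submatrix (fromBlocks A 0 (fromRows E (0 : Matrix (Fin c) (Fin a) F)) (bd B C))
    (Equiv.sumAssoc (Fin a) (Fin b) (Fin c))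
  refine (MSim.of_eq ?_).trans e
  ext ((i | i) | i) ((j | j) | j) <;> simp

variable [Fintype F]

theorem two_one (hF : Fintype.card F = 2) (x : F) (hx : x ≠ 0) : x = 1 := by
  have := FiniteField.pow_card_sub_one_eq_one x hx
  rwa [hF, pow_one] at this

theorem two_eq_zero (hF : Fintype.card F = 2) : (2 : F) = 0 := by
  have := FiniteField.cast_card_eq_zero F
  rw [hF] at this
  exact_mod_cast this

theorem two_hom (hF : Fintype.card F = 2) : Nonempty (ZMod 2 →+* F) := by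
  have h : ((2 : ℕ) : F) = 0 := by rw [← hF]; exact FiniteField.cast_card_eq_zero F
  have : CharP F (ringChar F) := ringChar.charP F
  have hd : ringChar F ∣ 2 := (CharP.cast_eq_zero_iff F (ringChar F) 2).1 h
  exact ⟨ZMod.castHom (n := 2) hd F⟩

theorem com_sims_two (hF : Fintype.card F = 2) (k : ℕ) {D : F[X]} (hD : D.Monic) (hDd : D.natDegree = k + 1 + 2)
    (hD0 : D.coeff 0 ≠ 0) :
    ∃ a : Matrix (Fin (k + 1 + 2)) (Fin (k + 1 + 2)) F, a.det = 1 ∧
      MSim a (bd (jord (k + 1) 1) (comp 2 (X ^ 2 + X + 1))) ∧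
      MSim (comp (k + 1 + 2) D * a) (bd (jord (k + 1) 1) (comp 2 (X ^ 2 + X + 1))) := by
  have hone := two_one hF
  set Q : F[X] := X ^ 2 + X + 1 with hQdef
  have hQ' : Q = X ^ 2 + (X + 1) := by rw [hQdef, add_assoc]
  have hQ : Q.Monic := by
    rw [hQ']; exact monic_X_pow_add (by rw [← C_1, degree_X_add_C]; norm_num)
  have hQd : Q.natDegree = 2 := by rw [hQdef]; compute_degree!
  have hQ0 : Q.coeff 0 = 1 := by simp [hQdef]
  have hQr : Q.eval 1 ≠ 0 := by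
    simp [hQdef]
    intro h
    exact one_ne_zero (α := F) (by linear_combination h - two_eq_zero hF)
  have hm : ((X - C 1) ^ (k + 1) : F[X]).Monic := (monic_X_sub_C 1).pow _
  have hd : ((X - C 1) ^ (k + 1) : F[X]).natDegree = k + 1 := by rw [natDegree_pow, natDegree_X_sub_C, mul_one]
  have hco : IsCoprime ((X - C (1 : F)) ^ (k + 1)) Q := (isCoprime_X_sub_C hQr).symm.pow_left
  have hs := (msim_comp_mul_coprime hm hd hQ hQd hco).trans ((msim_jord (k + 1) (1 : F)).symm.bd (MSim.refl _))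
  have hdD : (comp (k + 1 + 2) D).det = 1 := hone _ (by rw [det_comp hD hDd]; simp [hD0])
  obtain ⟨a, h1, h2⟩ := cyclic_mul (k := k + 1) (by omega) hD hDd hD0 (hm.mul hQ)
    (by rw [hm.natDegree_mul hQ, hd, hQd]) hQ hQd (jord (k + 1) (1 : F)) (jord_upper _ _)
    (fun i => by simp [jord]) (by rwa [charpoly_jord])
    (by rw [hs.det_eq, hdD, hQ0]; simp [det_jord, det_comp hQ hQd, hQ0])
  exact ⟨a, by rw [h1.det_eq]; simp [det_jord, det_comp hQ hQd, hQ0], h1, h2.trans hs⟩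

theorem com_comp_two (hF : Fintype.card F = 2) (k : ℕ) {D : F[X]} (hD : D.Monic) (hDd : D.natDegree = k + 1 + 2)
    (hD0 : D.coeff 0 ≠ 0) : Com (comp (k + 1 + 2) D) := by
  obtain ⟨a, ha, h1, h2⟩ := com_sims_two hF k hD hDd hD0
  exact com_of_two (two_one hF) (by rw [ha]; exact one_ne_zero) (h2.trans h1.symm)

/-- `X ^ 2 + 1`. -/
noncomputable abbrev hu : F[X] := X ^ 2 + 1

theorem hu_monic : (hu : F[X]).Monic := monic_X_pow_add (by simp)

theorem hu_natDegree : (hu : F[X]).natDegree = 2 := by rw [hu, ← C_1]; exact natDegree_X_pow_add_C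

theorem com_j2_big (hF : Fintype.card F = 2) (i : ℕ) {e : F[X]} (he : e.Monic) (hed : e.natDegree = i + 1 + 2)
    (he0 : e.coeff 0 ≠ 0) : Com (bd (comp 2 (hu : F[X])) (comp (i + 1 + 2 + 2) (e * hu))) := by
  classical
  obtain ⟨φ⟩ := two_hom hF
  have hone := two_one hF
  have h2 := two_eq_zero hF
  obtain ⟨aE, haE, s1, s2⟩ := com_sims_two hF i he hed he0
  have n1 : (-1 : F) = 1 := by linear_combination -h2
  set f4 : F[X] := X ^ 4 + (X + 1) with hf4
  have hf4m : f4.Monic := monic_X_pow_add (by rw [← C_1, degree_X_add_C]; norm_num)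
  have hf4d : f4.natDegree = 4 := by rw [hf4]; compute_degree!
  let Z := Matrix (Fin 4) (Fin 4) (ZMod 2)
  let C4 : Z := !![0, 0, 0, 1; 1, 0, 0, 1; 0, 1, 0, 0; 0, 0, 1, 0]
  let G4 : Z := !![0, 1, 0, 0; 1, 0, 0, 0; 0, 0, 0, 1; 0, 0, 1, 0]
  let A4 : Z := !![1, 0, 1, 1; 1, 1, 0, 0; 0, 0, 1, 1; 0, 1, 0, 1]
  let KA : Z := !![1, 1, 1, 0; 0, 1, 0, 1; 0, 0, 0, 1; 0, 0, 1, 1]
  let KAi : Z := !![1, 1, 0, 1; 0, 1, 1, 0; 0, 0, 1, 1; 0, 0, 1, 0]
  let KB : Z := !![1, 1, 0, 1; 0, 1, 1, 1; 0, 0, 1, 1; 0, 0, 0, 1]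
  let KBi : Z := !![1, 1, 1, 1; 0, 1, 1, 0; 0, 0, 1, 1; 0, 0, 0, 1]
  have wA : MSim A4 C4 := ⟨KA, KAi, by decide, by decide, by decide⟩
  have wB : MSim (G4 * A4) C4 := ⟨KB, KBi, by decide, by decide, by decide⟩
  have hC4 : comp 4 f4 = C4.map φ := by
    ext i j
    fin_cases i <;> fin_cases j <;> simp [comp, C4, hf4, Polynomial.coeff_one, Polynomial.coeff_X, n1]
  have mA : MSim (A4.map φ) (comp 4 f4) := hC4 ▸ wA.map φ
  have mB : MSim (G4.map φ * A4.map φ) (comp 4 f4) := by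
    rw [← Matrix.map_mul]; exact hC4 ▸ wB.map φ
  let eqv : Fin 2 ⊕ Fin 2 ≃ Fin 4 := finSumFinEquiv
  have el0 : eqv (Sum.inl 0) = 0 := rfl
  have el1 : eqv (Sum.inl 1) = 1 := rfl
  have er0 : eqv (Sum.inr 0) = 2 := rfl
  have er1 : eqv (Sum.inr 1) = 3 := rfl
  set HH := bd (comp 2 (hu : F[X])) (comp 2 (hu : F[X])) with hHH
  have hG : HH = (G4.map φ).submatrix eqv eqv := by
    ext (i | i) (j | j) <;> fin_cases i <;> fin_cases j <;>
      simp [hHH, comp, G4, el0, el1, er0, er1, hu, Polynomial.coeff_one, n1]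
  set aA : Matrix (Fin 2 ⊕ Fin 2) (Fin 2 ⊕ Fin 2) F := (A4.map φ).submatrix eqv eqv with haA
  have tA : MSim aA (comp 4 f4) := (MSim.submatrix _ _).trans mA
  have tB : MSim (HH * aA) (comp 4 f4) := by
    rw [hG, haA, Matrix.submatrix_mul_equiv]; exact (MSim.submatrix _ _).trans mB
  refine Com.congr ?_ (((MSim.refl (comp 2 (hu : F[X]))).bd
    (msim_comp_mul he hed hu_monic hu_natDegree).symm).trans ((MSim.bd_comm _ _).trans (msim_sum_assoc _ _ _ _)))
  rw [← hHH]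
  refine com_of_two (a := bd aE aA) hone ?_ ?_
  · rw [bd, det_fromBlocks_zero₂₁, haE, one_mul, tA.det_eq, det_comp hf4m hf4d]
    simp [hf4]
  · set Q : F[X] := X ^ 2 + X + 1 with hQdef
    have hQm : Q.Monic := by
      rw [hQdef, add_assoc]; exact monic_X_pow_add (by rw [← C_1, degree_X_add_C]; norm_num)
    have hQd : Q.natDegree = 2 := by rw [hQdef]; compute_degree!
    have hco : IsCoprime (bd (jord (i + 1) (1 : F)) (comp 2 Q)).charpoly f4 := by
      rw [bd, Matrix.charpoly_fromBlocks_zero₁₂, charpoly_jord, charpoly_comp hQm hQd]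
      refine IsCoprime.mul_left ?_ ?_
      · refine (isCoprime_X_sub_C ?_).symm.pow_left
        simp [hf4]
        intro h
        exact one_ne_zero (α := F) (by linear_combination h - h2)
      · refine ⟨-(X ^ 2 + X), 1, ?_⟩
        have h2' : (2 : F[X]) = 0 := by rw [← map_ofNat C 2, h2, C_0]
        rw [hQdef, hf4]
        linear_combination (-X ^ 3 - X ^ 2) * h2'
    have e1 : fromBlocks (comp (i + 1 + 2) e) 0 (fromRows (link (i + 1 + 2) 2) 0) HH * bd aE aA =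
        fromBlocks (comp (i + 1 + 2) e * aE) 0 (fromRows (link (i + 1 + 2) 2) 0 * aE) (HH * aA) := by
      simp [fromBlocks_multiply]
      ext (r | r) c
      · rfl
      · show (0 : F) = ∑ l, (0 : F) * aE l c
        simp
    rw [e1]
    have hco' : IsCoprime (comp (i + 1 + 2) e * aE).charpoly (HH * aA).charpoly := by
      rw [s2.charpoly_eq, tB.charpoly_eq, charpoly_comp hf4m hf4d]; exact hco
    exact (MSim.lower hco' _).trans ((s2.trans s1.symm).bd (tB.trans tA.symm))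

theorem com_j2 (hF : Fintype.card F = 2) {m : ℕ} {e : F[X]} (he : e.Monic) (hed : e.natDegree = m + 1)
    (he0 : e.coeff 0 ≠ 0) : Com (bd (comp 2 (hu : F[X])) (comp (m + 1 + 2) (e * hu))) := by
  classical
  obtain ⟨φ⟩ := two_hom hF
  have hone := two_one hF
  have h2 := two_eq_zero hF
  have n1 : (-1 : F) = 1 := by linear_combination -h2
  have hel : e.coeff (m + 1) = 1 := hed ▸ he.coeff_natDegree
  match m, hed, hel with
  | 0, hed, hel =>
    have hex : e = X + 1 := by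
      rw [he.eq_X_add_C hed, hone _ he0, C_1]
    let g : Matrix (Fin 5) (Fin 5) (ZMod 2) :=
      !![0, 1, 0, 0, 0; 1, 0, 0, 0, 0; 0, 0, 0, 0, 1; 0, 0, 1, 0, 1; 0, 0, 0, 1, 1]
    have hc := com_wit φ hone g
      !![1, 0, 1, 0, 1; 1, 1, 1, 0, 1; 1, 1, 1, 1, 1; 0, 0, 1, 1, 1; 0, 1, 0, 1, 1]
      !![1, 1, 1, 1, 0; 1, 1, 0, 0, 0; 1, 1, 0, 1, 1; 0, 1, 1, 0, 0; 1, 0, 1, 0, 1]
      !![0, 0, 1, 0, 1; 0, 0, 1, 1, 1; 0, 0, 0, 0, 1; 1, 1, 0, 1, 1; 1, 0, 1, 1, 1]
      !![0, 1, 0, 0, 1; 1, 0, 1, 1, 1; 1, 0, 1, 0, 0; 1, 1, 0, 0, 0; 0, 0, 1, 0, 0] (by decide)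
    let eqv : Fin 2 ⊕ Fin 3 ≃ Fin 5 := finSumFinEquiv
    have el0 : eqv (Sum.inl 0) = 0 := rfl
    have el1 : eqv (Sum.inl 1) = 1 := rfl
    have er0 : eqv (Sum.inr 0) = 2 := rfl
    have er1 : eqv (Sum.inr 1) = 3 := rfl
    have er2 : eqv (Sum.inr 2) = 4 := rfl
    refine hc.congr ((MSim.of_eq ?_).trans (MSim.submatrix _ eqv))
    have hp : e * hu = X ^ 3 + X ^ 2 + X + 1 := by rw [hex]; simp [hu]; ring
    rw [hp]
    ext (i | i) (j | j) <;> fin_cases i <;> fin_cases j <;>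
      simp [comp, g, el0, el1, er0, er1, er2, hu, Polynomial.coeff_one, Polynomial.coeff_X, Polynomial.coeff_X_pow, n1]
  | 1, hed, hel =>
    have hex : e = X ^ 2 + C (e.coeff 1) * X + 1 := by
      conv_lhs => rw [he.as_sum, hed]
      simp [Finset.sum_range_succ, hone _ he0]
      ring
    by_cases hb : e.coeff 1 = 0
    · let g : Matrix (Fin 6) (Fin 6) (ZMod 2) :=
        !![0, 1, 0, 0, 0, 0; 1, 0, 0, 0, 0, 0; 0, 0, 0, 0, 0, 1; 0, 0, 1, 0, 0, 0; 0, 0, 0, 1, 0, 0;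
          0, 0, 0, 0, 1, 0]
      have hc := com_wit φ hone g
        !![1, 0, 0, 0, 0, 0; 0, 0, 1, 1, 1, 1; 0, 1, 0, 0, 0, 1; 0, 0, 1, 0, 0, 0; 1, 1, 1, 0, 0, 0;
          1, 0, 1, 0, 1, 0]
        !![1, 0, 0, 0, 0, 0; 1, 0, 0, 1, 1, 0; 0, 0, 0, 1, 0, 0; 0, 1, 1, 1, 1, 1; 1, 0, 0, 1, 0, 1;
          1, 0, 1, 1, 1, 0]
        !![1, 1, 1, 1, 0, 1; 1, 1, 0, 0, 1, 1; 1, 0, 1, 0, 0, 0; 0, 0, 1, 0, 1, 0; 1, 0, 0, 1, 0, 0;
          0, 1, 1, 0, 1, 0]
        !![1, 1, 0, 1, 1, 0; 0, 0, 0, 1, 0, 1; 1, 1, 1, 1, 1, 0; 1, 1, 0, 1, 0, 0; 1, 1, 1, 0, 1, 0;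
          0, 1, 1, 0, 0, 1] (by decide)
      let eqv : Fin 2 ⊕ Fin 4 ≃ Fin 6 := finSumFinEquiv
      have el0 : eqv (Sum.inl 0) = 0 := rfl
      have el1 : eqv (Sum.inl 1) = 1 := rfl
      have er0 : eqv (Sum.inr 0) = 2 := rfl
      have er1 : eqv (Sum.inr 1) = 3 := rfl
      have er2 : eqv (Sum.inr 2) = 4 := rfl
      have er3 : eqv (Sum.inr 3) = 5 := rfl
      refine hc.congr ((MSim.of_eq ?_).trans (MSim.submatrix _ eqv))
      have hp : e * hu = X ^ 4 + 1 := by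
        rw [hex, hb]
        simp [hu]
        have h2' : (2 : F[X]) = 0 := by rw [← map_ofNat C 2, h2, C_0]
        linear_combination (X ^ 2) * h2'
      rw [hp]
      ext (i | i) (j | j) <;> fin_cases i <;> fin_cases j <;>
        simp [comp, g, el0, el1, er0, er1, er2, er3, hu, Polynomial.coeff_one, Polynomial.coeff_X_pow, n1]
    · have hb1 := hone _ hb
      have hco : IsCoprime e (hu : F[X]) := by
        have h2' : (2 : F[X]) = 0 := by rw [← map_ofNat C 2, h2, C_0]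
        refine ⟨X, X + 1, ?_⟩
        rw [hex, hb1, C_1, hu]
        linear_combination (X ^ 3 + X ^ 2 + X) * h2'
      refine Com.congr ?_ (((MSim.refl _).bd (msim_comp_mul_coprime he hed hu_monic hu_natDegree hco)).trans
        (((MSim.refl _).bd (MSim.bd_comm _ _)).trans (MSim.bd_assoc _ _ _).symm))
      refine Com.bd ?_ ?_
      · refine Com.congr ((free_q2 0 ?_ (-(hu : F[X]).coeff 1)).com ?_)
          ((comp_two.bd comp_two).trans ((q2_sum _ _).trans (q2_congr _ _ finSumFinEquiv)))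
        · simp [hu]
        · exact hone _ (by rw [det_q2]; simp [hu])
      · refine ⟨!![1, 0; 1, 1], !![1, 1; 0, 1], by simp [Matrix.det_fin_two], by simp [Matrix.det_fin_two], ?_⟩
        have he1 : e.coeff 0 = 1 := hone _ he0
        ext i j
        fin_cases i <;> fin_cases j <;>
          simp [comp, Matrix.mul_apply, Fin.sum_univ_two, he1, hb1, n1] <;> linear_combination h2
  | i + 2, hed, hel => exact com_j2_big hF i he hed he0

end Cfsg.Agent.Lib.ThompsonComm
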